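import Cfsg.Agent.Known.ClassNumberSpEven.Series
import Cfsg.Agent.Known.ClassNumberSp.Classes
import Mathlib

/-! The class number of the symplectic group in characteristic two. -/

set_option autoImplicit false
set_option linter.style.haveILetI false

open Polynomial Matrix Cfsg.Lib.Classical
open scoped Classical

namespace Cfsg.Lib.ClassNumberSpEven

open Cfsg.Lib.ClassNumberSp (isom_toLin piece_top)

universe u v

variable {F : Type u} [Field F] [Fintype F] [CharP F 2] {n : ℕ}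

theorem isConj_of_dec (A A' : symplecticGroup (Fin n) F) {L L' : List (Key F)}
    (hL : Dec (sympBilin n F) (Nat.card (symplecticGroup (Fin n) F))
      (Matrix.toLin' (A : Matrix (Fin n ⊕ Fin n) (Fin n ⊕ Fin n) F)) L ⊤)
    (hL' : Dec (sympBilin n F) (Nat.card (symplecticGroup (Fin n) F))
      (Matrix.toLin' (A' : Matrix (Fin n ⊕ Fin n) (Fin n ⊕ Fin n) F)) L' ⊤)
    (h : L.Perm L') : IsConj A A' := by
  obtain ⟨f, -, hfB, hfa⟩ := iso_of_dec (isom_toLin A) (isom_toLin A') (sympBilin_isAlt n F)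
    (hL.perm h (sympBilin_isAlt n F)) hL'
  let T : (Fin n ⊕ Fin n → F) →ₗ[F] (Fin n ⊕ Fin n → F) :=
    f.comp (LinearEquiv.ofTop ⊤ rfl).symm.toLinearMap
  have hT : ∀ x, T x = f ⟨x, Submodule.mem_top⟩ := fun x => rfl
  have hmem : LinearMap.toMatrix' T ∈ symplecticGroup (Fin n) F := by
    rw [mem_symplectic_iff_form]
    intro u w
    rw [← Matrix.toLin'_apply, ← Matrix.toLin'_apply, Matrix.toLin'_toMatrix', hT, hT]
    exact hfB _ _
  refine isConj_iff.2 ⟨⟨_, hmem⟩, mul_inv_eq_iff_eq_mul.2 (Subtype.ext ?_)⟩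
  show LinearMap.toMatrix' T * (A : Matrix (Fin n ⊕ Fin n) (Fin n ⊕ Fin n) F) =
    (A' : Matrix (Fin n ⊕ Fin n) (Fin n ⊕ Fin n) F) * LinearMap.toMatrix' T
  apply Matrix.toLin'.injective
  rw [Matrix.toLin'_mul, Matrix.toLin'_mul, Matrix.toLin'_toMatrix']
  refine LinearMap.ext fun x => ?_
  show T (Matrix.toLin' (A : Matrix (Fin n ⊕ Fin n) (Fin n ⊕ Fin n) F) x) =
    Matrix.toLin' (A' : Matrix (Fin n ⊕ Fin n) (Fin n ⊕ Fin n) F) (T x)
  rw [hT, hT]
  exact hfa ⟨x, Submodule.mem_top⟩ Submodule.mem_top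

omit [Fintype F] in
theorem Dec.good {V : Type v} [AddCommGroup V] [Module F V] {B : LinearMap.BilinForm F V} {N : ℕ}
    {a : Module.End F V} {L : List (Key F)} {W : Submodule F V} (h : Dec B N a L W) (hn : Normal L) :
    Good (L : Multiset (Key F)) := by
  refine ⟨fun k hk => ?_, fun k => by simpa [oneCnt] using (hn k).1, fun k => by simpa [flag] using (hn k).2.1,
    fun k => by simpa [flag, oneCnt] using (hn k).2.2.1, fun k hk => ?_⟩
  · obtain ⟨U, -, hU⟩ := h.exists_mem (Multiset.mem_coe.1 hk)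
    rcases k with ⟨Q, e⟩ | ⟨e⟩ | ⟨j⟩ | ⟨j, c⟩
    · exact ⟨hU.1, hU.2.1⟩
    · obtain ⟨v, w, hp, -⟩ := hU; exact hp.pos
    · exact hU.1
    · obtain ⟨hc, v, hv, -⟩ := hU; exact ⟨hv.pos, hc⟩
  · rw [Multiset.coe_count] at hk ⊢
    exact List.count_eq_zero.2 ((hn k).2.2.2 (List.count_pos_iff.1 hk))

theorem card_classes_le (n : ℕ) :
    5 * Nat.card (ConjClasses (symplecticGroup (Fin n) F)) ≤ 76 * Fintype.card F ^ n := by
  have hq : 2 ≤ Fintype.card F := Fintype.one_lt_card
  have hdec : ∀ C : ConjClasses (symplecticGroup (Fin n) F), ∃ L, Dec (sympBilin n F)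
      (Nat.card (symplecticGroup (Fin n) F))
      (Matrix.toLin' ((Quotient.out C : symplecticGroup (Fin n) F) : Matrix (Fin n ⊕ Fin n) (Fin n ⊕ Fin n) F)) L ⊤ ∧
      Normal L := fun C =>
    exists_dec (isom_toLin _) (sympBilin_isAlt n F) _ ⊤ (piece_top _) le_rfl
  choose L hL hLn using hdec
  have hinj : Function.Injective fun C => (L C : Multiset (Key F)) := fun C C' h => by
    rw [← Quotient.out_eq C, ← Quotient.out_eq C']
    exact Quotient.sound (isConj_of_dec _ _ (hL C) (hL C') (Multiset.coe_eq_coe.1 h))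
  obtain ⟨-, hcard⟩ := card_labels_le n _ hinj (fun C => (hL C).good (hLn C)) fun C => by
    rw [Multiset.map_coe, Multiset.sum_coe, ← (hL C).finrank (isom_toLin _) (sympBilin_isAlt n F), finrank_top,
      Module.finrank_pi, Fintype.card_sum, Fintype.card_fin, two_mul]
  have h := ((Nat.cast_le (α := ℚ)).2 hcard).trans (sum_patterns_le (Fintype.card F) n hq)
  rw [← Nat.cast_le (α := ℚ)]
  push_cast
  linarith

end Cfsg.Lib.ClassNumberSpEven
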