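import Cfsg.Agent.Known.ClassNumberSp.Decomp
import Mathlib

/-! Identities for unipotent isometries of alternating forms in characteristic two. -/

set_option autoImplicit false
set_option linter.style.haveILetI false

open Polynomial

namespace Cfsg.Lib.ClassNumberSpEven

open Cfsg.Lib.ClassNumberSp (Isom gen mem_gen alt_neg aeval_mul_apply)

universe u v

variable {F : Type u} [Field F] {V : Type v} [AddCommGroup V] [Module F V]

/-- The map `a + 1`. -/
def nil (a : Module.End F V) : Module.End F V := a + 1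

/-- The self-adjoint map `a + a⁻¹`. -/
def sym (N : ℕ) (a : Module.End F V) : Module.End F V := a + a ^ (N - 1)

/-- The values of the form on the self-adjoint translates. -/
def cc (B : LinearMap.BilinForm F V) (N : ℕ) (a : Module.End F V) (j : ℕ) (x : V) : F :=
  B (a ((sym N a ^ j) x)) x

variable [CharP F 2] {B : LinearMap.BilinForm F V} {N : ℕ} {a : Module.End F V}

omit [Module F V] in
theorem vadd_self (F : Type u) [Field F] [CharP F 2] [Module F V] (x : V) : x + x = 0 := by
  rw [← two_smul F x, CharTwo.two_eq_zero, zero_smul]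

omit [CharP F 2] in
theorem nil_apply (x : V) : nil a x = a x + x := rfl

theorem aeval_lin : aeval a (X - C (1 : F)) = nil a := by
  rw [map_sub, aeval_X, aeval_C, map_one, sub_eq_add_neg, nil]
  congr 1
  refine LinearMap.ext fun x => ?_
  rw [LinearMap.neg_apply, Module.End.one_apply]
  exact (eq_neg_of_add_eq_zero_left (vadd_self F x)).symm

theorem aeval_lin_pow (m : ℕ) : aeval a ((X - C (1 : F)) ^ m) = nil a ^ m := by
  rw [map_pow, aeval_lin]

theorem alt_symm (hB : B.IsAlt) (u w : V) : B u w = B w u := by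
  rw [alt_neg hB, CharTwo.neg_eq]

omit [CharP F 2] in
theorem a_inv (ha : Isom B N a) (x : V) : a ((a ^ (N - 1) : Module.End F V) x) = x := by
  rw [← Module.End.mul_apply, ← pow_succ', Nat.sub_add_cancel ha.pos, ha.pow, Module.End.one_apply]

omit [CharP F 2] in
theorem inv_a (ha : Isom B N a) (x : V) : (a ^ (N - 1) : Module.End F V) (a x) = x := by
  rw [← Module.End.mul_apply, ← pow_succ, Nat.sub_add_cancel ha.pos, ha.pow, Module.End.one_apply]

omit [CharP F 2] in
theorem adj (ha : Isom B N a) (x y : V) : B (a x) y = B x ((a ^ (N - 1) : Module.End F V) y) := by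
  conv_lhs => rw [← a_inv ha y, ha.isom]

omit [CharP F 2] in
theorem adj' (ha : Isom B N a) (x y : V) : B ((a ^ (N - 1) : Module.End F V) x) y = B x (a y) := by
  conv_rhs => rw [← a_inv ha x, ha.isom]

omit [CharP F 2] in
theorem comm_sym : Commute a (sym N a) :=
  (Commute.refl a).add_right (Commute.self_pow a _)

omit [CharP F 2] in
theorem comm_nil : Commute a (nil a) :=
  (Commute.refl a).add_right (Commute.one_right a)

omit [CharP F 2] in
theorem nil_sym_comm : Commute (nil a) (sym N a) :=
  (comm_sym (a := a) (N := N)).add_left (Commute.one_left _)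

omit [CharP F 2] in
theorem a_sym (j : ℕ) (x : V) : a ((sym N a ^ j) x) = (sym N a ^ j) (a x) :=
  LinearMap.congr_fun ((comm_sym (a := a) (N := N)).pow_right j).eq x

omit [CharP F 2] in
theorem nil_sym (i j : ℕ) (x : V) : (nil a ^ i) ((sym N a ^ j) x) = (sym N a ^ j) ((nil a ^ i) x) :=
  LinearMap.congr_fun ((nil_sym_comm (a := a) (N := N)).pow_pow i j).eq x

omit [CharP F 2] in
theorem sym_adj (ha : Isom B N a) (j : ℕ) (x y : V) : B ((sym N a ^ j) x) y = B x ((sym N a ^ j) y) := by
  induction j generalizing x y with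
  | zero => rfl
  | succ j ih =>
    rw [pow_succ', Module.End.mul_apply, (Commute.self_pow (sym N a) j).eq, Module.End.mul_apply, ← ih]
    simp only [sym, LinearMap.add_apply, map_add]
    rw [adj ha, adj' ha]
    exact add_comm _ _

omit [CharP F 2] in
theorem sym_add (i j : ℕ) (x : V) : (sym N a ^ i) ((sym N a ^ j) x) = (sym N a ^ (i + j)) x := by
  rw [pow_add, Module.End.mul_apply]

theorem sym_self (ha : Isom B N a) (hB : B.IsAlt) (j : ℕ) (x : V) : B ((sym N a ^ j) x) x = 0 := by
  rcases Nat.even_or_odd' j with ⟨i, rfl | rfl⟩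
  · rw [two_mul, ← sym_add, sym_adj ha]; exact hB _
  · rw [two_mul, show i + i + 1 = i + (1 + i) by ring, ← sym_add, sym_adj ha, ← sym_add, pow_one]
    set z := (sym N a ^ i) x
    simp only [sym, LinearMap.add_apply, map_add]
    rw [adj' ha, alt_symm hB z (a z), CharTwo.add_self_eq_zero]

omit [CharP F 2] in
theorem cc_smul (j : ℕ) (c : F) (x : V) : cc B N a j (c • x) = c * c * cc B N a j x := by
  simp only [cc, map_smul, LinearMap.smul_apply, smul_eq_mul, mul_assoc]

theorem cc_add (ha : Isom B N a) (hB : B.IsAlt) (j : ℕ) (x y : V) :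
    cc B N a j (x + y) = cc B N a j x + cc B N a j y + B ((sym N a ^ (j + 1)) x) y := by
  have h1 : B (a ((sym N a ^ j) y)) x = B ((sym N a ^ j) ((a ^ (N - 1) : Module.End F V) x)) y := by
    rw [adj ha, sym_adj ha, alt_symm hB]
  have h2 : (sym N a ^ (j + 1)) x = a ((sym N a ^ j) x) + (sym N a ^ j) ((a ^ (N - 1) : Module.End F V) x) := by
    rw [pow_succ, Module.End.mul_apply, a_sym, ← map_add]; rfl
  simp only [cc, map_add, LinearMap.add_apply, h1, h2]
  ring

omit [CharP F 2] in
theorem cc_zero_vec (j : ℕ) : cc B N a j 0 = 0 := by simp [cc]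

omit [CharP F 2] in
theorem cc_a (ha : Isom B N a) (j : ℕ) (x : V) : cc B N a j (a x) = cc B N a j x := by
  rw [cc, cc, ← a_sym, ha.isom]

omit [CharP F 2] in
theorem cc_sym (ha : Isom B N a) (j i : ℕ) (x : V) :
    cc B N a j ((sym N a ^ i) x) = cc B N a (j + 2 * i) x := by
  rw [cc, cc, ← sym_adj ha, ← a_sym, sym_add, sym_add, show i + j + i = j + 2 * i by ring]

theorem cc_nil (ha : Isom B N a) (hB : B.IsAlt) (j : ℕ) (x : V) : cc B N a j (nil a x) = cc B N a (j + 1) x := by
  rw [nil_apply, cc_add ha hB, cc_a ha, CharTwo.add_self_eq_zero, zero_add, cc, a_sym]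

theorem cc_nil_pow (ha : Isom B N a) (hB : B.IsAlt) (j i : ℕ) (x : V) :
    cc B N a j ((nil a ^ i) x) = cc B N a (j + i) x := by
  induction i generalizing j with
  | zero => rfl
  | succ i ih => rw [pow_succ', Module.End.mul_apply, cc_nil ha hB, ih]; congr 1; omega

theorem cross_nil_self (ha : Isom B N a) (hB : B.IsAlt) (m : ℕ) (x : V) :
    B ((sym N a ^ m) x) (nil a x) = cc B N a m x := by
  rw [nil_apply, map_add, sym_self ha hB, add_zero, sym_adj ha, alt_symm hB, cc, a_sym]

theorem a_sq (ha : Isom B N a) (x : V) : a (a x) = a (sym N a x) + x := by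
  rw [sym, LinearMap.add_apply, map_add, a_inv ha, add_assoc, vadd_self F, add_zero]

theorem nil_sq (ha : Isom B N a) (x : V) : nil a (nil a x) = a (sym N a x) := by
  rw [nil_apply, nil_apply, map_add, a_sq ha]
  have h1 := vadd_self F (a x)
  have h2 := vadd_self F x
  calc a (sym N a x) + x + a x + (a x + x) = a (sym N a x) + ((a x + a x) + (x + x)) := by abel
    _ = _ := by rw [h1, h2, add_zero, add_zero]

theorem nil_pow_two (ha : Isom B N a) (i : ℕ) (x : V) :
    (nil a ^ (2 * i)) x = (a ^ i : Module.End F V) ((sym N a ^ i) x) := by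
  induction i generalizing x with
  | zero => rfl
  | succ i ih =>
    rw [show 2 * (i + 1) = 2 * i + 2 by ring, pow_add, Module.End.mul_apply, pow_two, Module.End.mul_apply, nil_sq ha,
      ih, ← a_sym, ← Module.End.mul_apply (a ^ i), ← pow_succ, pow_succ (sym N a), Module.End.mul_apply]

omit [CharP F 2] in
theorem pow_inj (ha : Isom B N a) (i : ℕ) : Function.Injective (a ^ i : Module.End F V) := by
  rw [Module.End.coe_pow]
  exact (Function.LeftInverse.injective (inv_a ha)).iterate i

theorem sym_eq_zero_iff (ha : Isom B N a) (i : ℕ) (x : V) : (sym N a ^ i) x = 0 ↔ (nil a ^ (2 * i)) x = 0 := by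
  rw [nil_pow_two ha]
  exact ⟨fun h => by rw [h, map_zero], fun h => pow_inj ha i (by rw [h, map_zero])⟩

omit [CharP F 2] in
theorem nil_zero_of_le {e j : ℕ} {x : V} (h : (nil a ^ e) x = 0) (hej : e ≤ j) : (nil a ^ j) x = 0 := by
  obtain ⟨i, rfl⟩ := Nat.exists_eq_add_of_le hej
  rw [add_comm, pow_add, Module.End.mul_apply, h, map_zero]

theorem fix_of_nil {x : V} (h : nil a x = 0) : a x = x := by
  rw [nil_apply] at h
  rw [← add_zero (a x), ← vadd_self F x, ← add_assoc, h, zero_add]

theorem fix_pow {x : V} (h : nil a x = 0) (i : ℕ) : (a ^ i : Module.End F V) x = x := by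
  induction i with
  | zero => rfl
  | succ i ih => rw [pow_succ, Module.End.mul_apply, fix_of_nil h, ih]

theorem cc_high_even (ha : Isom B N a) {k j : ℕ} {x : V} (h : (nil a ^ (2 * k)) x = 0) (hj : k ≤ j) :
    cc B N a j x = 0 := by
  rw [cc, (sym_eq_zero_iff ha j x).2 (nil_zero_of_le h (by omega)), map_zero, map_zero, LinearMap.zero_apply]

theorem cc_high_odd (ha : Isom B N a) (hB : B.IsAlt) {k j : ℕ} {x : V} (h : (nil a ^ (2 * k + 1)) x = 0) (hj : k ≤ j) :
    cc B N a j x = 0 := by
  have h1 : nil a ((sym N a ^ j) x) = 0 := by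
    have := nil_zero_of_le (j := 2 * j + 1) h (by omega)
    rw [pow_succ', Module.End.mul_apply, nil_pow_two ha, ← Module.End.mul_apply,
      ((comm_nil (a := a)).pow_left j).symm.eq, Module.End.mul_apply] at this
    exact pow_inj ha j (by rw [this, map_zero])
  rw [cc, fix_of_nil h1, sym_self ha hB]

omit [CharP F 2] in
/-- Moving powers of `a + 1` to the other side of the form. -/
theorem nil_adj (ha : Isom B N a) (i : ℕ) (x y : V) :
    B x ((nil a ^ i) y) = B ((((a ^ (N - 1)) ^ i : Module.End F V)) ((nil a ^ i) x)) y := by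
  induction i generalizing x y with
  | zero => rfl
  | succ i ih =>
    have h1 : B x ((nil a ^ (i + 1)) y) = B ((a ^ (N - 1) : Module.End F V) (nil a x)) ((nil a ^ i) y) := by
      rw [pow_succ', Module.End.mul_apply]
      simp only [nil_apply, map_add, LinearMap.add_apply, inv_a ha]
      rw [adj' ha]
      exact add_comm _ _
    rw [h1, ih, pow_succ' (a ^ (N - 1) : Module.End F V), Module.End.mul_apply, pow_succ (nil a), Module.End.mul_apply]
    congr 2
    have hc : Commute (nil a ^ i) (a ^ (N - 1) : Module.End F V) := (comm_nil (a := a)).symm.pow_pow i _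
    rw [← Module.End.mul_apply (nil a ^ i), hc.eq, Module.End.mul_apply]
    exact LinearMap.congr_fun (Commute.pow_self (a ^ (N - 1) : Module.End F V) i).eq _

/-- Products of translates in a cyclic subspace vanish above the length. -/
theorem cross_zero (ha : Isom B N a) {e i j : ℕ} {x : V} (h : (nil a ^ e) x = 0) (he : e ≤ i + j) (y : V) :
    B ((nil a ^ j) x) ((nil a ^ i) y) = 0 := by
  rw [nil_adj ha, ← Module.End.mul_apply (nil a ^ i), ← pow_add, nil_zero_of_le h he, map_zero, map_zero,
    LinearMap.zero_apply]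

/-- On the top layer the twist disappears. -/
theorem cross_top (ha : Isom B N a) {e i j : ℕ} {x : V} (h : (nil a ^ e) x = 0) (he : i + j + 1 = e) (y : V) :
    B ((nil a ^ j) x) ((nil a ^ i) y) = B ((nil a ^ (e - 1)) x) y := by
  rw [nil_adj ha, ← Module.End.mul_apply (nil a ^ i), ← pow_add, ← pow_mul, show i + j = e - 1 by omega]
  rw [fix_pow (by rw [← Module.End.mul_apply, ← pow_succ', show e - 1 + 1 = e by omega, h])]

theorem sym_eq (ha : Isom B N a) (m : ℕ) (x : V) :
    (sym N a ^ m) x = ((a ^ (N - 1)) ^ m : Module.End F V) ((nil a ^ (2 * m)) x) := by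
  have e1 : (a ^ (N - 1) : Module.End F V) * a = 1 := by rw [← pow_succ, Nat.sub_add_cancel ha.pos, ha.pow]
  rw [nil_pow_two ha, ← Module.End.mul_apply, ← (Commute.pow_self a (N - 1)).mul_pow, e1, one_pow, Module.End.one_apply]

theorem symn_zero (ha : Isom B N a) {e m i : ℕ} {x : V} (h : (nil a ^ e) x = 0) (he : e ≤ 2 * m + i) (y : V) :
    B ((sym N a ^ m) x) ((nil a ^ i) y) = 0 := by
  rw [sym_eq ha, nil_adj ha, ← Module.End.mul_apply (nil a ^ i),
    (((comm_nil (a := a)).pow_left (N - 1)).symm.pow_pow i m).eq, Module.End.mul_apply,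
    ← Module.End.mul_apply (nil a ^ i), ← pow_add, nil_zero_of_le h (by omega)]
  simp

theorem sym_zero (ha : Isom B N a) {e m : ℕ} {x : V} (h : (nil a ^ e) x = 0) (he : e ≤ 2 * m) (y : V) :
    B ((sym N a ^ m) x) y = 0 := symn_zero ha (i := 0) h (by simpa using he) y

theorem symn_top (ha : Isom B N a) {e m i : ℕ} {x : V} (h : (nil a ^ e) x = 0) (he : 2 * m + i + 1 = e) (y : V) :
    B ((sym N a ^ m) x) ((nil a ^ i) y) = B ((nil a ^ (e - 1)) x) y := by
  rw [sym_eq ha, nil_adj ha, ← Module.End.mul_apply (nil a ^ i),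
    (((comm_nil (a := a)).pow_left (N - 1)).symm.pow_pow i m).eq, Module.End.mul_apply,
    ← Module.End.mul_apply (nil a ^ i), ← pow_add, show i + 2 * m = e - 1 by omega]
  have hz : nil a ((nil a ^ (e - 1)) x) = 0 := by
    rw [← Module.End.mul_apply, ← pow_succ', show e - 1 + 1 = e by omega, h]
  simp only [← pow_mul, fix_pow hz]

theorem top_symm (ha : Isom B N a) {e : ℕ} {x : V} (h : (nil a ^ e) x = 0) (he : 1 ≤ e) (hB : B.IsAlt) (y : V) :
    B ((nil a ^ (e - 1)) y) x = B ((nil a ^ (e - 1)) x) y := by
  rw [alt_symm hB]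
  have := cross_top ha (i := e - 1) (j := 0) h (by omega) y
  rwa [pow_zero, Module.End.one_apply] at this

theorem top_self_even (ha : Isom B N a) (hB : B.IsAlt) {k : ℕ} {x : V} (h : (nil a ^ (2 * k)) x = 0) (hk : 1 ≤ k) :
    B ((nil a ^ (2 * k - 1)) x) x = cc B N a (k - 1) x := by
  rw [← cross_nil_self ha hB, ← symn_top ha (m := k - 1) (i := 1) h (by omega) x, pow_one]

theorem top_self_odd (ha : Isom B N a) (hB : B.IsAlt) {k : ℕ} {x : V} (h : (nil a ^ (2 * k + 1)) x = 0) :
    B ((nil a ^ (2 * k)) x) x = 0 := by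
  rw [show 2 * k = 2 * k + 1 - 1 by omega, ← symn_top ha (m := k) (i := 0) h (by omega) x, pow_zero,
    Module.End.one_apply, sym_self ha hB]

/-- The whole functional of one vector from the coefficients. -/
theorem self_gram {a' : Module.End F V} (ha : Isom B N a) (ha' : Isom B N a') (hB : B.IsAlt) {x x' : V}
    (h : ∀ j, cc B N a' j x' = cc B N a j x) (f : F[X]) : B (aeval a' f x') x' = B (aeval a f x) x := by
  have step : ∀ (b : Module.End F V) (z : V), Isom B N b → ∀ m i,
      B ((b ^ (m + 2) : Module.End F V) ((sym N b ^ i) z)) z =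
        B ((b ^ (m + 1) : Module.End F V) ((sym N b ^ (i + 1)) z)) z + B ((b ^ m : Module.End F V) ((sym N b ^ i) z)) z := by
    intro b z hb m i
    rw [pow_add, Module.End.mul_apply, pow_two, Module.End.mul_apply, a_sq hb, map_add, map_add, LinearMap.add_apply,
      pow_succ b, Module.End.mul_apply, pow_succ' (sym N b), Module.End.mul_apply]
  have key : ∀ m i, B ((a' ^ m : Module.End F V) ((sym N a' ^ i) x')) x' =
      B ((a ^ m : Module.End F V) ((sym N a ^ i) x)) x := by
    intro m
    induction m using Nat.twoStepInduction with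
    | zero => intro i; rw [pow_zero, pow_zero, Module.End.one_apply, Module.End.one_apply, sym_self ha' hB, sym_self ha hB]
    | one => intro i; rw [pow_one, pow_one]; exact h i
    | more m ih ih' => intro i; rw [step a' x' ha', step a x ha, ih' (i + 1), ih i]
  induction f using Polynomial.induction_on' with
  | add s t hs ht => simp only [map_add, LinearMap.add_apply, hs, ht]
  | monomial m c =>
    simp only [aeval_monomial, Module.End.mul_apply, Module.algebraMap_end_apply, map_smul, LinearMap.smul_apply]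
    exact congrArg _ (by simpa using key m 0)

/-- A vector with vanishing coefficients spans an isotropic subspace. -/
theorem self_gram_zero (ha : Isom B N a) (hB : B.IsAlt) {x : V} (h : ∀ j, cc B N a j x = 0) (f g : F[X]) :
    B (aeval a f x) (aeval a g x) = 0 := by
  rw [ha.adjoint, ← aeval_mul_apply, alt_symm hB]
  have h0 := self_gram (a' := a) (x := (0 : V)) (x' := x) ha ha hB (fun j => by rw [h, cc_zero_vec])
    (ClassNumberSp.star N f * g)
  simpa using h0

/-- A functional is determined by its values on powers of `a + 1`. -/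
theorem cross_gram {a' : Module.End F V} {x y x' y' : V}
    (h : ∀ j, B ((nil a' ^ j) x') y' = B ((nil a ^ j) x) y) (f : F[X]) :
    B (aeval a' f x') y' = B (aeval a f x) y := by
  obtain ⟨g, rfl⟩ : ∃ g : F[X], f = g.comp (X - C 1) := ⟨f.comp (X + C 1), by simp [comp_assoc]⟩
  rw [aeval_comp, aeval_comp, aeval_lin, aeval_lin]
  induction g using Polynomial.induction_on' with
  | add s t hs ht => simp only [map_add, LinearMap.add_apply, hs, ht]
  | monomial m c =>
    simp only [aeval_monomial, Module.End.mul_apply, Module.algebraMap_end_apply, map_smul, LinearMap.smul_apply]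
    exact congrArg _ (h m)

end Cfsg.Lib.ClassNumberSpEven
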