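import Cfsg.Agent.Known.ClassNumberSpEven.Decomp
import Cfsg.Agent.Known.ClassNumberSp.Count
import Mathlib

/-! Counting the normal label sets in characteristic two. -/

set_option autoImplicit false
set_option linter.style.haveILetI false

open Polynomial UniqueFactorizationMonoid
open scoped Classical

namespace Cfsg.Lib.ClassNumberSpEven

open Cfsg.Lib.ClassNumberSp (GoodQ Pal card_pal_le count_prod nf_irreducible sum_map_le symPoly)

universe u

variable {F : Type u} [Field F]

/-- The conditions on labels imposed by blocks. -/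
def Key.Valid : Key F → Prop
  | .cyc Q e => GoodQ Q ∧ 1 ≤ e
  | .pair e => 1 ≤ e
  | .arf k => 1 ≤ k
  | .one k c => 1 ≤ k ∧ (c = true → 2 ≤ k)

/-- The restrictions on a multiset of labels. -/
structure Good (L : Multiset (Key F)) : Prop where
  valid : ∀ k ∈ L, k.Valid
  one_le : ∀ k, L.count (Key.one k false) + L.count (Key.one k true) ≤ 2
  flag_le : ∀ k, L.count (Key.arf k) + L.count (Key.one (k + 1) true) ≤ 1
  excl : ∀ k, 1 ≤ L.count (Key.arf k) + L.count (Key.one (k + 1) true) →
    L.count (Key.one k false) + L.count (Key.one k true) = 0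
  carrier : ∀ k, 1 ≤ L.count (Key.one (k + 1) true) → L.count (Key.pair (2 * k + 1)) = 0

/-- The number of single blocks. -/
noncomputable def ones (L : Multiset (Key F)) (k : ℕ) : ℕ := L.count (Key.one k false) + L.count (Key.one k true)

/-- The bit of a level. -/
noncomputable def flags (L : Multiset (Key F)) (k : ℕ) : ℕ := L.count (Key.arf k) + L.count (Key.one (k + 1) true)

/-- The contribution of a label to the polynomial attached to an exponent. -/
noncomputable def Key.part (o : ℕ → ℕ) (e : ℕ) : Key F → F[X]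
  | .cyc Q e' => if e' = e then Q else 1
  | .pair e' => if e' = e then (X - C 1) ^ 2 else 1
  | .arf k => if 2 * k + 1 = e ∧ o (k + 1) ≠ 0 then (X - C 1) ^ 2 else 1
  | .one _ _ => 1

/-- The polynomial of an exponent. -/
noncomputable def poly (L : Multiset (Key F)) (e : ℕ) : F[X] := (L.map (Key.part (ones L) e)).prod

variable [CharP F 2]

theorem lin_sq_props : ((X - C (1 : F)) ^ 2).Monic ∧ ((X - C (1 : F)) ^ 2).reverse = (X - C 1) ^ 2 ∧
    ((X - C (1 : F)) ^ 2).natDegree = 2 :=
  ⟨(monic_X_sub_C _).pow _, reverse_lin_pow 2, by rw [natDegree_pow, natDegree_X_sub_C, mul_one]⟩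

theorem part_props {o : ℕ → ℕ} {k : Key F} (hk : k.Valid) (e : ℕ) :
    (k.part o e).Monic ∧ (k.part o e).reverse = k.part o e ∧ Even (k.part o e).natDegree := by
  have h1 : (1 : F[X]).reverse = 1 := by simp [Polynomial.reverse]
  obtain ⟨lm, lr, ld⟩ := lin_sq_props (F := F)
  rcases k with ⟨Q, e'⟩ | ⟨e'⟩ | ⟨j⟩ | ⟨j, c⟩ <;> simp only [Key.part]
  · split_ifs
    · obtain ⟨hm, hr, -, hd, -⟩ := goodQ_props hk.1
      exact ⟨hm, hr, hd⟩
    · exact ⟨monic_one, h1, by simp⟩
  · split_ifs
    · exact ⟨lm, lr, by rw [ld]; exact even_two⟩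
    · exact ⟨monic_one, h1, by simp⟩
  · split_ifs
    · exact ⟨lm, lr, by rw [ld]; exact even_two⟩
    · exact ⟨monic_one, h1, by simp⟩
  · exact ⟨monic_one, h1, by simp⟩

theorem poly_props {L : Multiset (Key F)} (hL : Good L) (e : ℕ) :
    (poly L e).Monic ∧ (poly L e).reverse = poly L e ∧
      (poly L e).natDegree = (L.map fun k => (k.part (ones L) e).natDegree).sum ∧ Even (poly L e).natDegree := by
  have hm : ∀ g ∈ L.map (Key.part (ones L) e), g.Monic ∧ g.reverse = g ∧ Even g.natDegree := fun g hg => by
    obtain ⟨k, hk, rfl⟩ := Multiset.mem_map.1 hg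
    exact part_props (hL.valid k hk) e
  have hdeg : (poly L e).natDegree = (L.map fun k => (k.part (ones L) e).natDegree).sum := by
    rw [poly, natDegree_multiset_prod_of_monic _ (fun g hg => (hm g hg).1), Multiset.map_map]
    rfl
  refine ⟨monic_multiset_prod_of_monic L _ fun k hk => (part_props (hL.valid k hk) e).1,
    ClassNumberSp.reverse_prod _ fun g hg => (hm g hg).2.1, hdeg, ?_⟩
  rw [hdeg]
  refine even_iff_two_dvd.2 (Multiset.dvd_sum fun x hx => ?_)
  obtain ⟨k, hk, rfl⟩ := Multiset.mem_map.1 hx
  exact even_iff_two_dvd.1 (part_props (hL.valid k hk) e).2.2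

omit [CharP F 2] in
theorem sum_two_count (L : Multiset (Key F)) (k0 k1 : Key F) (h01 : k0 ≠ k1) (f : Key F → ℕ) (c d : ℕ)
    (h : ∀ k ∈ L, f k = (if k = k0 then c else 0) + if k = k1 then d else 0) :
    (L.map f).sum = L.count k0 * c + L.count k1 * d := by
  induction L using Multiset.induction with
  | empty => simp
  | cons a L ih =>
    rw [Multiset.map_cons, Multiset.sum_cons, ih fun k hk => h k (Multiset.mem_cons_of_mem hk),
      h a (Multiset.mem_cons_self a L), Multiset.count_cons, Multiset.count_cons]
    by_cases h0 : a = k0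
    · subst h0; rw [if_pos rfl, if_neg h01, if_pos rfl, if_neg (Ne.symm h01)]; ring
    · rw [if_neg h0, if_neg (Ne.symm h0)]
      by_cases h1 : a = k1
      · rw [if_pos h1, if_pos h1.symm]; ring
      · rw [if_neg h1, if_neg (Ne.symm h1)]; ring

omit [CharP F 2] in
theorem sum_one_count (L : Multiset (Key F)) (k0 : Key F) (f : Key F → ℕ) (c : ℕ)
    (h : ∀ k ∈ L, f k = if k = k0 then c else 0) : (L.map f).sum = L.count k0 * c := by
  induction L using Multiset.induction with
  | empty => simp
  | cons a L ih =>
    rw [Multiset.map_cons, Multiset.sum_cons, ih fun k hk => h k (Multiset.mem_cons_of_mem hk),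
      h a (Multiset.mem_cons_self a L), Multiset.count_cons]
    by_cases ha : a = k0
    · rw [if_pos ha, if_pos ha.symm]; ring
    · rw [if_neg ha, if_neg (Ne.symm ha)]; ring

theorem poly_count {L : Multiset (Key F)} (hL : Good L) (P : F[X]) (e : ℕ) :
    Multiset.count P (normalizedFactors (poly L e)) =
      (L.map fun k => Multiset.count P (normalizedFactors (k.part (ones L) e))).sum := by
  rw [poly, count_prod P _ (fun g hg => ?_), Multiset.map_map]
  · rfl
  · obtain ⟨k, hk, rfl⟩ := Multiset.mem_map.1 hg
    exact (part_props (hL.valid k hk) e).1.ne_zero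

theorem count_lin_sq (P : F[X]) :
    Multiset.count P (normalizedFactors ((X - C (1 : F)) ^ 2)) = if P = X - C 1 then 2 else 0 := by
  rw [normalizedFactors_pow, nf_irreducible (monic_X_sub_C _) (irreducible_X_sub_C _), Multiset.count_nsmul,
    Multiset.count_singleton]
  split_ifs <;> simp

theorem goodQ_count_two {Q : F[X]} (hQ : GoodQ Q) :
    ∃ P : F[X], P ≠ X - C 1 ∧ Multiset.count P (normalizedFactors Q) = 1 ∧
      ∀ Q', GoodQ Q' → Q' ≠ Q → Multiset.count P (normalizedFactors Q') = 0 := by
  obtain ⟨P, hm, hi, h0, hX, rfl⟩ := hQ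
  refine ⟨P, fun h => ClassNumberSp.not_eval_of_irreducible hi hX true (by rw [h]; simp [ClassNumberSp.sgn]), ?_, ?_⟩
  · rw [symPoly]
    split_ifs with h
    · rw [nf_irreducible hm hi, Multiset.count_singleton_self]
    · rw [normalizedFactors_mul hm.ne_zero (DualPoly.dual_monic h0).ne_zero, nf_irreducible hm hi,
        nf_irreducible (DualPoly.dual_monic h0) (DualPoly.dual_irreducible (fun _ => rfl) hm hi h0),
        Multiset.count_add, Multiset.count_singleton_self, Multiset.count_singleton, if_neg (Ne.symm h)]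
  · rintro Q' ⟨P', hm', hi', h0', -, rfl⟩ hne
    rw [Multiset.count_eq_zero]
    intro hmem
    apply hne
    have hd := DualPoly.dual_dual (σ := RingHom.id F) (fun _ => rfl) hm' h0'
    have hD : normalizedFactors (symPoly P') ⊆ {P', DualPoly.dual (RingHom.id F) P'} := by
      intro x hx
      rw [symPoly] at hx
      split_ifs at hx with h
      · rw [nf_irreducible hm' hi'] at hx
        simp [Multiset.mem_singleton.1 hx]
      · rw [normalizedFactors_mul hm'.ne_zero (DualPoly.dual_monic h0').ne_zero, nf_irreducible hm' hi',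
          nf_irreducible (DualPoly.dual_monic h0') (DualPoly.dual_irreducible (fun _ => rfl) hm' hi' h0')] at hx
        simpa using hx
    have := hD hmem
    simp only [Multiset.insert_eq_cons, Multiset.mem_cons, Multiset.mem_singleton] at this
    rcases this with rfl | rfl
    · rfl
    · simp only [symPoly, hd]
      by_cases h : DualPoly.dual (RingHom.id F) P' = P'
      · rw [if_pos h, if_pos h.symm, h]
      · rw [if_neg h, if_neg (Ne.symm h), mul_comm]

/-- The polynomials and the numbers of single blocks and bits determine the labels. -/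
theorem eq_of_data {L L' : Multiset (Key F)} (hL : Good L) (hL' : Good L')
    (hp : ∀ e, 1 ≤ e → poly L e = poly L' e) (ho : ∀ k, 1 ≤ k → ones L k = ones L' k)
    (hf : ∀ k, 1 ≤ k → flags L k = flags L' k) : L = L' := by
  have zero : ∀ {M : Multiset (Key F)}, Good M → ∀ k, ¬ k.Valid → M.count k = 0 := fun hM k hk =>
    Multiset.count_eq_zero.2 fun h => hk (hM.valid k h)
  have hcyc_lin : ∀ {Q : F[X]}, GoodQ Q → Multiset.count (X - C 1) (normalizedFactors Q) = 0 := by
    intro Q hQ
    rw [Multiset.count_eq_zero]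
    intro hmem
    exact not_isUnit_X_sub_C _ ((goodQ_props hQ).2.2.1.isUnit_of_dvd' (dvd_of_mem_normalizedFactors hmem)
      (dvd_iff_isRoot.2 (by simp)))
  have hlin : ∀ (M : Multiset (Key F)), Good M → ∀ k,
      Multiset.count (X - C 1) (normalizedFactors (poly M (2 * k + 1))) =
        2 * M.count (Key.pair (2 * k + 1)) + (if ones M (k + 1) ≠ 0 then 2 * M.count (Key.arf k) else 0) := by
    intro M hM k
    rw [poly_count hM, sum_two_count M (Key.pair (2 * k + 1)) (Key.arf k) (by simp) _ 2
      (if ones M (k + 1) ≠ 0 then 2 else 0)]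
    · split_ifs <;> ring
    · intro x hx
      have hv := hM.valid x hx
      rcases x with ⟨Q, e'⟩ | ⟨e'⟩ | ⟨j⟩ | ⟨j, c⟩ <;> simp only [Key.part, reduceCtorEq, if_false, add_zero, zero_add,
        Key.pair.injEq, Key.arf.injEq]
      · split_ifs
        · exact hcyc_lin hv.1
        · simp
      · split_ifs
        · rw [count_lin_sq, if_pos rfl]
        · simp
      · by_cases hj : j = k
        · subst hj
          by_cases h : ones M (j + 1) ≠ 0
          · rw [if_pos ⟨rfl, h⟩, if_pos rfl, if_pos h, count_lin_sq, if_pos rfl]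
          · rw [if_neg (fun hh => h hh.2), if_pos rfl, if_neg h]; simp
        · rw [if_neg hj, if_neg (fun hh => hj (by omega))]; simp
      · simp
  have hlin' : ∀ (M : Multiset (Key F)), Good M → ∀ k,
      Multiset.count (X - C 1) (normalizedFactors (poly M (2 * k))) = 2 * M.count (Key.pair (2 * k)) := by
    intro M hM k
    rw [poly_count hM, sum_one_count M (Key.pair (2 * k)) _ 2, mul_comm]
    intro x hx
    have hv := hM.valid x hx
    rcases x with ⟨Q, e'⟩ | ⟨e'⟩ | ⟨j⟩ | ⟨j, c⟩ <;> simp only [Key.part, reduceCtorEq, if_false, Key.pair.injEq]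
    · split_ifs
      · exact hcyc_lin hv.1
      · simp
    · split_ifs
      · rw [count_lin_sq, if_pos rfl]
      · simp
    · rw [if_neg (fun hh => by omega)]; simp
    · simp
  -- the labels of one level
  have level : ∀ k, 1 ≤ k → L.count (Key.arf k) = L'.count (Key.arf k) ∧
      L.count (Key.one (k + 1) true) = L'.count (Key.one (k + 1) true) ∧
      L.count (Key.pair (2 * k + 1)) = L'.count (Key.pair (2 * k + 1)) := by
    intro k hk
    have h1 := hlin L hL k
    have h1' := hlin L' hL' k
    rw [hp _ (by omega), h1', ← ho (k + 1) (by omega)] at h1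
    have h2 := hf k hk
    have e1 := hL.flag_le k
    have e1' := hL'.flag_le k
    have e2 := hL.carrier k
    have e2' := hL'.carrier k
    have e3 : L.count (Key.one (k + 1) true) ≤ ones L (k + 1) := Nat.le_add_left _ _
    have e3' : L'.count (Key.one (k + 1) true) ≤ ones L (k + 1) := by rw [ho (k + 1) (by omega)]; exact Nat.le_add_left _ _
    simp only [flags] at h2
    by_cases hz : ones L (k + 1) = 0
    · rw [if_neg (by simpa using hz), if_neg (by simpa using hz)] at h1
      omega
    · rw [if_pos hz, if_pos hz] at h1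
      omega
  have htrue : ∀ k, L.count (Key.one k true) = L'.count (Key.one k true) := by
    intro k
    by_cases hk : 2 ≤ k
    · have := (level (k - 1) (by omega)).2.1
      rwa [Nat.sub_add_cancel (by omega)] at this
    · rw [zero hL (Key.one k true) (fun h => hk (h.2 rfl)), zero hL' (Key.one k true) (fun h => hk (h.2 rfl))]
  refine Multiset.ext.2 fun k => ?_
  by_cases hv : k.Valid
  swap
  · rw [zero hL _ hv, zero hL' _ hv]
  rcases k with ⟨Q, e⟩ | ⟨e⟩ | ⟨j⟩ | ⟨j, c⟩
  · obtain ⟨hQ, he⟩ := hv
    obtain ⟨P, hPl, hP1, hP0⟩ := goodQ_count_two hQ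
    have key : ∀ (M : Multiset (Key F)), Good M →
        Multiset.count P (normalizedFactors (poly M e)) = M.count (Key.cyc Q e) := by
      intro M hM
      rw [poly_count hM, sum_one_count M (Key.cyc Q e) _ 1, mul_one]
      intro x hx
      have hxv := hM.valid x hx
      rcases x with ⟨Q', e'⟩ | ⟨e'⟩ | ⟨j⟩ | ⟨j, c⟩ <;> simp only [Key.part, reduceCtorEq, if_false, Key.cyc.injEq]
      · split_ifs with h1 h3 h3
        · rw [h3.1, hP1]
        · exact hP0 Q' hxv.1 fun h => h3 ⟨h, h1⟩
        · exact absurd h3.2 h1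
        · simp
      · split_ifs
        · rw [count_lin_sq, if_neg hPl]
        · simp
      · split_ifs
        · rw [count_lin_sq, if_neg hPl]
        · simp
      · simp
    rw [← key L hL, ← key L' hL', hp e he]
  · have he : 1 ≤ e := hv
    rcases Nat.even_or_odd' e with ⟨i, rfl | rfl⟩
    · have h1 := hlin' L hL i
      rw [hp _ he, hlin' L' hL' i] at h1
      omega
    · rcases Nat.eq_zero_or_pos i with rfl | hi
      · have h1 := hlin L hL 0
        have a0 := zero hL (Key.arf 0) (Nat.not_succ_le_zero 0)
        have a0' := zero hL' (Key.arf 0) (Nat.not_succ_le_zero 0)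
        rw [hp _ he, hlin L' hL' 0, a0, a0'] at h1
        simp at h1 ⊢
        omega
      · exact (level i hi).2.2
  · exact (level j hv).1
  · have h1 := ho j hv.1
    simp only [ones] at h1
    have := htrue j
    cases c <;> omega

end Cfsg.Lib.ClassNumberSpEven
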