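import Cfsg.Agent.Known.ClassNumberSpEven.Unip
import Mathlib

/-! Normal decompositions of isometries of alternating forms in characteristic two. -/

set_option autoImplicit false
set_option linter.style.haveILetI false

open Polynomial
open scoped Classical

namespace Cfsg.Lib.ClassNumberSpEven

open Cfsg.Lib.ClassNumberSp (Isom Piece GoodQ Cyc IsoOn gen gen_le mem_gen self_mem_gen pairGen mem_pairGen
  gen_invariant sgn sgn_sq symPoly dual_id_eq reverse_eq_dual not_eval_of_irreducible not_dvd_star dual_pow'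
  dvd_of_prime_mul aeval_mul_apply aeval_star alt_neg iso_sup)

universe u v

variable {F : Type u} [Field F] {V : Type v} [AddCommGroup V] [Module F V]
variable {B : LinearMap.BilinForm F V} {N : ℕ} {a a' : Module.End F V}

/-- A self-reciprocal polynomial of odd degree vanishes at one. -/
theorem eval_one_odd [CharP F 2] {P : F[X]} (hrev : P.reverse = P) (ho : Odd P.natDegree) : P.eval 1 = 0 := by
  rw [eval_eq_sum_range]
  simp only [one_pow, mul_one]
  refine Finset.sum_involution (fun i _ => P.natDegree - i) (fun i hi => ?_) (fun i hi _ => ?_) (fun i hi => ?_)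
    (fun i hi => ?_) <;> simp only [Finset.mem_range] at hi ⊢
  · have h := congrArg (fun p : F[X] => p.coeff i) hrev
    simp only [coeff_reverse, revAt_le (show i ≤ P.natDegree by omega)] at h
    rw [h, CharTwo.add_self_eq_zero]
  · obtain ⟨r, hr⟩ := ho; omega
  · omega
  · omega

theorem goodQ_props [CharP F 2] {Q : F[X]} (hQ : GoodQ Q) :
    Q.Monic ∧ Q.reverse = Q ∧ IsCoprime Q (X ^ 2 - 1) ∧ Even Q.natDegree ∧ 2 ≤ Q.natDegree := by
  classical
  obtain ⟨P, hm, hi, h0, hP, rfl⟩ := hQ
  have e1 := not_eval_of_irreducible hi hP true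
  have hdm := DualPoly.dual_monic (σ := RingHom.id F) h0
  have hdd : (DualPoly.dual (RingHom.id F) P).natDegree = P.natDegree := DualPoly.dual_natDegree h0
  have hcopP : IsCoprime P (X ^ 2 - 1) := hi.coprime_iff_not_dvd.2 hP
  simp only [symPoly]
  split_ifs with hd
  · have hc : P.coeff 0 = 1 := by
      have h := DualPoly.dual_coeff_zero (σ := RingHom.id F) hm
      rw [hd, RingHom.id_apply] at h
      rcases mul_self_eq_one_iff.1 (show P.coeff 0 * P.coeff 0 = 1 by
        conv_lhs => arg 1; rw [h]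
        exact inv_mul_cancel₀ h0) with hc | hc
      · exact hc
      · rwa [CharTwo.neg_eq] at hc
    have hrev : P.reverse = P := by rw [reverse_eq_dual h0, hd, hc, C_1, one_mul]
    have hev : Even P.natDegree := by
      refine (Nat.even_or_odd _).resolve_right fun ho => e1 ?_
      simpa [sgn] using eval_one_odd hrev ho
    refine ⟨hm, hrev, hcopP, hev, ?_⟩
    have := hi.natDegree_pos
    obtain ⟨r, hr⟩ := hev
    omega
  · have hcopD : IsCoprime (DualPoly.dual (RingHom.id F) P) (X ^ 2 - 1) := by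
      refine (DualPoly.dual_irreducible (fun _ => rfl) hm hi h0).coprime_iff_not_dvd.2 fun hdv => ?_
      have hX : (X : F[X]) ^ 2 - 1 = (X - C (sgn F true)) * (X - C (sgn F false)) := by
        simp [sgn]; ring
      rw [hX] at hdv
      have hdi := DualPoly.dual_irreducible (σ := RingHom.id F) (fun _ => rfl) hm hi h0
      have key : ∀ b, DualPoly.dual (RingHom.id F) P ∣ X - C (sgn F b) → False := by
        intro b hb
        have heq := eq_of_monic_of_associated hdm (monic_X_sub_C _) (hdi.associated_of_dvd (irreducible_X_sub_C _) hb)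
        have h1 := DualPoly.dual_dual (σ := RingHom.id F) (fun _ => rfl) hm h0
        rw [heq] at h1
        have h3 : DualPoly.dual (RingHom.id F) (X - C (sgn F b)) = X - C (sgn F b) := by
          have hne : sgn F b ≠ 0 := left_ne_zero_of_mul_eq_one (sgn_sq b)
          rw [dual_id_eq]
          ext k
          rw [coeff_C_mul, coeff_reverse, natDegree_X_sub_C]
          rcases k with _ | _ | k
          · rw [revAt_le (by omega)]; simp [coeff_X, coeff_C]; exact inv_eq_of_mul_eq_one_right (sgn_sq b)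
          · rw [revAt_le le_rfl]; simp [coeff_X, coeff_C, hne]
          · rw [revAt_eq_self_of_lt (by omega)]; simp [coeff_X, coeff_C]
        rw [h3] at h1
        apply not_eval_of_irreducible hi hP b
        rw [← h1]; simp
      rcases hdi.prime.dvd_or_dvd hdv with h | h
      · exact key _ h
      · exact key _ h
    refine ⟨hm.mul hdm, ?_, hcopP.mul_left hcopD, ?_, ?_⟩
    · rw [reverse_eq_dual (by rw [mul_coeff_zero, DualPoly.dual_coeff_zero hm]; exact mul_ne_zero h0 (by simpa using h0)),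
        DualPoly.dual_mul, DualPoly.dual_dual (fun _ => rfl) hm h0, mul_coeff_zero, DualPoly.dual_coeff_zero hm,
        RingHom.id_apply, mul_inv_cancel₀ h0, C_1, one_mul, mul_comm]
    · rw [hm.natDegree_mul hdm, hdd]; exact ⟨_, rfl⟩
    · rw [hm.natDegree_mul hdm, hdd]; have := hi.natDegree_pos; omega

variable [FiniteDimensional F V]

/-- A block away from the eigenvalues `1`, `-1`. -/
theorem exists_cyc_block [CharP F 2] (ha : Isom B N a) (hB : B.IsAlt) {W : Submodule F V} (hW : Piece B a W)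
    {μ : F[X]} (hm : μ.Monic) (hμN : μ ∣ X ^ N - 1) (hμd : DualPoly.dual (RingHom.id F) μ = μ)
    (hμ0 : μ.coeff 0 ≠ 0) (hμ : ∀ f : F[X], (∀ x ∈ W, aeval a f x = 0) ↔ μ ∣ f) {P : F[X]} (hPm : P.Monic)
    (hP : Irreducible P) (hPμ : P ∣ μ) (hPX : ¬ P ∣ X ^ 2 - 1) :
    ∃ k : Key F, ∃ U ≤ W, IsBlock B N a k U ∧ Forced B N a W k U := by
  classical
  have hfin := FiniteMultiplicity.of_prime_left hP.prime hm.ne_zero
  set e := multiplicity P μ with he
  have hpe : P ^ e ∣ μ := pow_multiplicity_dvd P μ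
  have hpe' : ¬ P ^ (e + 1) ∣ μ := hfin.not_pow_dvd_of_multiplicity_lt (Nat.lt_succ_self _)
  have he1 : 1 ≤ e := by
    by_contra h0
    rw [not_le, Nat.lt_one_iff] at h0
    rw [h0, zero_add, pow_one] at hpe'
    exact hpe' hPμ
  have hP0 : P.coeff 0 ≠ 0 := fun h => hμ0 (by
    obtain ⟨c, hc⟩ := hPμ
    rw [hc, mul_coeff_zero, h, zero_mul])
  set D := DualPoly.dual (RingHom.id F) P with hD
  have hDe : D ^ e ∣ μ := by
    obtain ⟨c, hc⟩ := hpe
    rw [← hμd, hc, DualPoly.dual_mul, dual_pow']
    exact dvd_mul_right _ _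
  set Q := symPoly P with hQ
  have hgood : GoodQ Q := ⟨P, hPm, hP, hP0, hPX, rfl⟩
  obtain ⟨hQm, hQrev, hQcop, -, -⟩ := goodQ_props hgood
  have hQd : Q = P ∨ (Q = P * D ∧ D ≠ P) := by
    rw [hQ, symPoly]; split_ifs with h
    · exact Or.inl rfl
    · exact Or.inr ⟨rfl, h⟩
  have hDi : Irreducible D := DualPoly.dual_irreducible (fun _ => rfl) hPm hP hP0
  have hDm : D.Monic := DualPoly.dual_monic hP0
  have hQμ : Q ^ e ∣ μ := by
    rcases hQd with h | ⟨h, hne⟩
    · rw [h]; exact hpe
    · rw [h, mul_pow]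
      refine IsCoprime.mul_dvd ?_ hpe hDe
      refine (hP.coprime_iff_not_dvd.2 fun hd => hne ?_).pow
      exact (eq_of_monic_of_associated hPm hDm (hP.associated_of_dvd hDi hd)).symm
  obtain ⟨c, hc⟩ := hQμ
  have hQ0 : Q.coeff 0 = 1 := by
    have : Q.reverse.coeff 0 = Q.leadingCoeff := coeff_zero_reverse Q
    rw [hQrev, hQm] at this
    exact this
  have hQe0 : (Q ^ e).coeff 0 = 1 := by
    rw [coeff_zero_eq_eval_zero, eval_pow, ← coeff_zero_eq_eval_zero, hQ0, one_pow]
  have hQerev : (Q ^ e).reverse = Q ^ e := by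
    clear hc hQe0
    induction e with
    | zero => simp [Polynomial.reverse]
    | succ j ih => rw [pow_succ, reverse_mul_of_domain, ih, hQrev]
  have hQedual : DualPoly.dual (RingHom.id F) (Q ^ e) = Q ^ e := by
    rw [dual_id_eq, hQe0, hQerev, inv_one, C_1, one_mul]
  have hc0 : c.coeff 0 ≠ 0 := fun h => hμ0 (by rw [hc, mul_coeff_zero, h, mul_zero])
  have hcd : DualPoly.dual (RingHom.id F) c = c := by
    have := hμd
    rw [hc, DualPoly.dual_mul, hQedual] at this
    exact mul_left_cancel₀ (hQm.pow e).ne_zero this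
  have hPQ : P ∣ Q := by rcases hQd with h | ⟨h, -⟩ <;> rw [h]; exact dvd_mul_right _ _
  obtain ⟨m, hmQ⟩ : P ∣ Q ^ e := hPQ.trans (dvd_pow_self Q (by omega))
  have hPc : ¬ P ∣ c := fun h => hpe' (by
    obtain ⟨d, hd⟩ := pow_dvd_pow_of_dvd hPQ e
    rw [hc, pow_succ, hd, mul_assoc]
    exact mul_dvd_mul_left _ (h.mul_left d))
  have hPm' : ¬ P ^ e ∣ m := fun h => hpe' (by
    rw [hc, hmQ, pow_succ', mul_assoc]
    exact mul_dvd_mul_left _ (h.mul_right c))
  set z := ClassNumberSp.star N c * m * c with hz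
  have hzne : ¬ μ ∣ (X ^ 2 - 1) * z := by
    intro h
    have h1 : P ^ e ∣ (X ^ 2 - 1) * z := hpe.trans h
    have hps := not_dvd_star ha.pos hμN hPμ hP hcd hc0 hPc
    rw [hz] at h1
    exact hPm' (hP.prime.pow_dvd_of_dvd_mul_left e hps (hP.prime.pow_dvd_of_dvd_mul_right e hPc
      (hP.prime.pow_dvd_of_dvd_mul_left e hPX h1)))
  obtain ⟨f, u, hu, huf⟩ : ∃ f : F[X], ∃ u ∈ W, B (aeval a (f * z) u) u ≠ 0 := by
    by_contra hcon
    push Not at hcon
    have hk : ∀ f : F[X], μ ∣ f * z - ClassNumberSp.star N (f * z) := fun f => (hμ _).1 fun x hx => by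
      by_contra hne
      obtain ⟨u, hu, h⟩ := hW.exists_self_ne ha hB ⟨x, hx, hne⟩
      exact h (hcon f u hu)
    apply hzne
    have h1 := hk 1
    have h3 := hk X
    simp only [ClassNumberSp.star, one_mul, mul_comp, X_comp] at h1 h3
    have e : (X ^ 2 - 1) * z = X * (X * z - X ^ (N - 1) * z.comp (X ^ (N - 1))) -
        X ^ N * (z - z.comp (X ^ (N - 1))) + (X ^ N - 1) * z := by
      obtain ⟨M, rfl⟩ := Nat.exists_eq_add_of_le' ha.pos
      rw [Nat.add_sub_cancel, pow_succ]
      ring
    rw [e]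
    exact dvd_add (dvd_sub (h3.mul_left _) (h1.mul_left _)) (hμN.mul_right _)
  set v := aeval a c u with hv
  have hvW : v ∈ W := hW.invariant c u hu
  have hne : B (aeval a (f * m) v) v ≠ 0 := by
    intro h0
    apply huf
    rw [hv, alt_neg hB, ha.adjoint, alt_neg hB, neg_neg, ← aeval_mul_apply, ← aeval_mul_apply] at h0
    rw [← h0]
    congr 3
    rw [hz]; ring
  have hkill : aeval a (Q ^ e) v = 0 := by
    rw [hv, ← aeval_mul_apply, ← hc]
    exact (hμ μ).2 dvd_rfl u hu
  refine ⟨Key.cyc Q e, gen a v, gen_le hW.invariant hvW, ⟨hgood, he1, v, ⟨hQm.pow e, hQerev, hkill, ?_⟩, rfl⟩,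
    trivial⟩
  intro g hg
  by_contra hdiv
  let d := EuclideanDomain.gcd g (Q ^ e)
  have hd : d = g * EuclideanDomain.gcdA g (Q ^ e) + Q ^ e * EuclideanDomain.gcdB g (Q ^ e) :=
    EuclideanDomain.gcd_eq_gcd_ab _ _
  have hdJ : ∀ h, B (aeval a (h * d) v) v = 0 := by
    intro h
    rw [hd, mul_add, map_add, LinearMap.add_apply, map_add, LinearMap.add_apply,
      show h * (g * EuclideanDomain.gcdA g (Q ^ e)) = h * EuclideanDomain.gcdA g (Q ^ e) * g by ring, hg,
      show h * (Q ^ e * EuclideanDomain.gcdB g (Q ^ e)) = h * EuclideanDomain.gcdB g (Q ^ e) * Q ^ e by ring,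
      aeval_mul_apply, hkill, map_zero, map_zero, LinearMap.zero_apply, add_zero]
  have hdg : d ∣ g := EuclideanDomain.gcd_dvd_left _ _
  have hdQ : d ∣ Q ^ e := EuclideanDomain.gcd_dvd_right _ _
  have hup : ∀ s, d ∣ s → ∀ h, B (aeval a (h * s) v) v = 0 := by
    rintro s ⟨t, rfl⟩ h
    rw [show h * (d * t) = h * t * d by ring]
    exact hdJ _
  have hmJ : d ∣ m → False := fun h => hne (hup m h f)
  by_cases hPd : P ^ e ∣ d
  · rcases hQd with h | ⟨h, hneD⟩
    · exact hdiv (h ▸ hPd.trans hdg)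
    · have hDd : ¬ D ^ e ∣ d := fun hDd => hdiv (by
        rw [h, mul_pow]
        refine (IsCoprime.mul_dvd ?_ hPd hDd).trans hdg
        exact (hP.coprime_iff_not_dvd.2 fun hd => hneD
          (eq_of_monic_of_associated hPm hDm (hP.associated_of_dvd hDi hd)).symm).pow)
      set m' := DualPoly.dual (RingHom.id F) m with hm'
      have hDm' : D * m' = Q ^ e := by rw [hD, hm', ← DualPoly.dual_mul, ← hmQ, hQedual]
      have hd' : d ∣ m' := by
        refine dvd_of_prime_mul hDi.prime (hDm'.symm ▸ hdQ) hDd (hDm'.symm ▸ ?_)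
        rw [h, mul_pow]
        exact dvd_mul_left _ _
      have hm0 : m.coeff 0 ≠ 0 := fun h0 => by
        have := hQe0
        rw [hmQ, mul_coeff_zero, h0, mul_zero] at this
        exact zero_ne_one this
      have hrev : d ∣ m.reverse := by rw [reverse_eq_dual hm0]; exact hd'.mul_left _
      have h1 := ClassNumberSU.aeval_reverse (K := F) a (a ^ (N - 1))
        (by rw [← pow_succ, Nat.sub_add_cancel ha.pos, ha.pow]) (Commute.self_pow a _) m
      apply hne
      rw [ha.adjoint, alt_neg hB, neg_eq_zero]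
      have hstar : aeval a (ClassNumberSp.star N (f * m)) = aeval a ((ClassNumberSp.star N f * X ^ ((N - 1) * m.natDegree)) * m.reverse) := by
        rw [map_mul (aeval a) (ClassNumberSp.star N f * X ^ ((N - 1) * m.natDegree)), ← h1, map_mul (aeval a) (ClassNumberSp.star N f), map_pow,
          aeval_X, show ClassNumberSp.star N (f * m) = ClassNumberSp.star N f * ClassNumberSp.star N m from mul_comp _ _ _, map_mul, ← aeval_star (x := a) (h := m),
          mul_assoc (aeval a (ClassNumberSp.star N f))]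
        congr 1
        have hcm : Commute (aeval a (ClassNumberSp.star N m)) (a ^ ((N - 1) * m.natDegree)) := by
          rw [show a ^ ((N - 1) * m.natDegree) = aeval a (X ^ ((N - 1) * m.natDegree) : F[X]) by simp]
          exact (Commute.all _ _).map (aeval a)
        rw [← mul_assoc, ← hcm.eq, mul_assoc, ← pow_add, ← Nat.succ_mul, Nat.succ_eq_add_one,
          Nat.sub_add_cancel ha.pos, pow_mul, ha.pow, one_pow, mul_one]
      rw [hstar]
      exact hup _ hrev _
  · exact hmJ (dvd_of_prime_mul hP.prime (hmQ ▸ hdQ) hPd (hmQ ▸ pow_dvd_pow_of_dvd hPQ e))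

variable [CharP F 2]

/-- The dimension of a block. -/
noncomputable def Key.size : Key F → ℕ
  | .cyc Q e => Q.natDegree * e
  | .pair e => 2 * e
  | .arf k => 2 * (2 * k + 1)
  | .one k _ => 2 * k

omit [FiniteDimensional F V] in
theorem IsBlock.invariant {k : Key F} {U : Submodule F V} (h : IsBlock B N a k U) (f : F[X]) {x : V} (hx : x ∈ U) :
    aeval a f x ∈ U := by
  have hp : ∀ {v w : V} {x : V}, x ∈ pairGen a v w → aeval a f x ∈ pairGen a v w := by
    intro v w x hx
    obtain ⟨p, q, rfl⟩ := mem_pairGen.1 hx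
    rw [map_add, ← aeval_mul_apply, ← aeval_mul_apply]
    exact mem_pairGen.2 ⟨_, _, rfl⟩
  rcases k with ⟨Q, e⟩ | ⟨e⟩ | ⟨j⟩ | ⟨j, c⟩
  · obtain ⟨-, -, v, -, rfl⟩ := h; exact gen_invariant f hx
  · obtain ⟨v, w, -, rfl⟩ := h; exact hp hx
  · obtain ⟨-, v, w, -, rfl⟩ := h; exact hp hx
  · obtain ⟨-, v, -, rfl⟩ := h; exact gen_invariant f hx

omit [FiniteDimensional F V] in
theorem IsBlock.nondeg (ha : Isom B N a) (hB : B.IsAlt) {k : Key F} {U : Submodule F V}
    (h : IsBlock B N a k U) {x : V} (hx : x ∈ U) (ho : ∀ y ∈ U, B x y = 0) : x = 0 := by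
  rcases k with ⟨Q, e⟩ | ⟨e⟩ | ⟨j⟩ | ⟨j, c⟩
  · obtain ⟨-, -, v, hc, rfl⟩ := h; exact hc.gen_nondeg ha hx ho
  · obtain ⟨v, w, hp, rfl⟩ := h; exact hp.gen_nondeg ha hB hx ho
  · obtain ⟨-, v, w, hp, rfl⟩ := h; exact hp.gen_nondeg ha hB hx ho
  · obtain ⟨-, v, hc, rfl⟩ := h; exact (hc.cyc ha hB).gen_nondeg ha hx ho

omit [FiniteDimensional F V] in
theorem IsBlock.finrank (ha : Isom B N a) (hB : B.IsAlt) {k : Key F} {U : Submodule F V}
    (h : IsBlock B N a k U) : Module.finrank F U = k.size := by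
  rcases k with ⟨Q, e⟩ | ⟨e⟩ | ⟨j⟩ | ⟨j, c⟩
  · obtain ⟨-, -, v, hc, rfl⟩ := h
    rw [hc.finrank_gen, natDegree_pow, mul_comm]; rfl
  · obtain ⟨v, w, hp, rfl⟩ := h; exact hp.finrank_gen ha hB
  · obtain ⟨-, v, w, hp, rfl⟩ := h; exact hp.finrank_gen ha hB
  · obtain ⟨-, v, hc, rfl⟩ := h
    rw [(hc.cyc ha hB).finrank_gen, natDegree_pow, natDegree_X_sub_C, mul_one]; rfl

omit [FiniteDimensional F V] in
theorem iso_of_isBlock [Finite F] (ha : Isom B N a) (ha' : Isom B N a') (hB : B.IsAlt)
    {k : Key F} {U U' : Submodule F V} (h : IsBlock B N a k U) (h' : IsBlock B N a' k U') : IsoOn B a a' U U' := by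
  rcases k with ⟨Q, e⟩ | ⟨e⟩ | ⟨j⟩ | ⟨j, c⟩
  · obtain ⟨hQ, he, v, hc, rfl⟩ := h
    obtain ⟨-, -, v', hc', rfl⟩ := h'
    exact ClassNumberSp.iso_of_coprime ha ha' hc hc' hB ((goodQ_props hQ).2.2.1.pow_left)
  · obtain ⟨v, w, hp, rfl⟩ := h
    obtain ⟨v', w', hp', rfl⟩ := h'
    exact iso_of_two ha ha' hB hp hp'
  · obtain ⟨-, v, w, hp, rfl⟩ := h
    obtain ⟨-, v', w', hp', rfl⟩ := h'
    exact iso_of_two ha ha' hB hp hp'
  · obtain ⟨-, v, hc, rfl⟩ := h
    obtain ⟨-, v', hc', rfl⟩ := h'
    exact iso_of_one ha ha' hB hc hc'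

/-- Orthogonal decompositions into labelled blocks. -/
inductive Dec (B : LinearMap.BilinForm F V) (N : ℕ) (a : Module.End F V) : List (Key F) → Submodule F V → Prop
  | nil : Dec B N a [] ⊥
  | cons {k : Key F} {L : List (Key F)} {U W : Submodule F V} : IsBlock B N a k U → Dec B N a L W →
      (∀ x ∈ U, ∀ y ∈ W, B x y = 0) → Dec B N a (k :: L) (U ⊔ W)

omit [FiniteDimensional F V] in
theorem Dec.invariant {L : List (Key F)} {W : Submodule F V} (h : Dec B N a L W) (f : F[X]) :
    ∀ x ∈ W, aeval a f x ∈ W := by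
  induction h with
  | nil => intro x hx; rw [Submodule.mem_bot] at hx; simp [hx]
  | cons hk _ _ ih =>
    intro x hx
    obtain ⟨y, hy, z, hz, rfl⟩ := Submodule.mem_sup.1 hx
    rw [map_add]
    exact Submodule.add_mem_sup (hk.invariant f hy) (ih z hz)

omit [FiniteDimensional F V] in
theorem Dec.exists_mem {L : List (Key F)} {W : Submodule F V} (h : Dec B N a L W) {k : Key F} (hk : k ∈ L) :
    ∃ U ≤ W, IsBlock B N a k U := by
  induction h with
  | nil => simp at hk
  | cons hk' _ _ ih =>
    rcases List.mem_cons.1 hk with rfl | hk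
    · exact ⟨_, le_sup_left, hk'⟩
    · obtain ⟨U, hU, hUb⟩ := ih hk
      exact ⟨U, hU.trans le_sup_right, hUb⟩

omit [FiniteDimensional F V] in
theorem Dec.perm {L L' : List (Key F)} (hp : L.Perm L') (hB : B.IsAlt) :
    ∀ {W : Submodule F V}, Dec B N a L W → Dec B N a L' W := by
  induction hp with
  | nil => exact fun h => h
  | cons x _ ih => exact fun h => by cases h with | cons hk hd ho => exact Dec.cons hk (ih hd) ho
  | swap x y l =>
    intro W h
    cases h with
    | cons hy hd ho =>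
      cases hd with
      | cons hx hl ho' =>
        rw [sup_left_comm]
        refine Dec.cons hx (Dec.cons hy hl fun p hp q hq => ho p hp q (Submodule.mem_sup_right hq)) fun p hp q hq => ?_
        obtain ⟨r, hr, s, hs, rfl⟩ := Submodule.mem_sup.1 hq
        rw [map_add, ho' p hp s hs, add_zero, alt_neg hB, ho r hr p (Submodule.mem_sup_left hp), neg_zero]
  | trans _ _ ih1 ih2 => exact fun h => ih2 (ih1 h)

omit [FiniteDimensional F V] in
theorem disjoint_of_orth (ha : Isom B N a) (hB : B.IsAlt) {k : Key F} {U W : Submodule F V}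
    (h : IsBlock B N a k U) (ho : ∀ x ∈ U, ∀ y ∈ W, B x y = 0) : Disjoint U W := by
  rw [Submodule.disjoint_def]
  intro x hx hx'
  refine h.nondeg ha hB hx fun y hy => ?_
  rw [alt_neg hB, ho y hy x hx', neg_zero]

theorem Dec.finrank (ha : Isom B N a) (hB : B.IsAlt) {L : List (Key F)} {W : Submodule F V}
    (h : Dec B N a L W) : Module.finrank F W = (L.map Key.size).sum := by
  induction h with
  | nil => simp
  | @cons k L U W hk _ ho ih =>
    rw [List.map_cons, List.sum_cons, ← ih, ← hk.finrank ha hB, ← Submodule.finrank_sup_add_finrank_inf_eq,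
      (disjoint_of_orth ha hB hk ho).eq_bot, finrank_bot, add_zero]

omit [FiniteDimensional F V] in
theorem iso_of_dec [Finite F] (ha : Isom B N a) (ha' : Isom B N a') (hB : B.IsAlt) :
    ∀ {L : List (Key F)} {W W' : Submodule F V}, Dec B N a L W → Dec B N a' L W' → IsoOn B a a' W W' := by
  intro L
  induction L with
  | nil =>
    intro W W' h h'
    cases h; cases h'
    refine ⟨0, LinearMap.range_zero, fun x y => ?_, fun x hx => by simp⟩
    have : (x : V) = 0 := (Submodule.mem_bot F).1 x.2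
    simp [this]
  | cons k L ih =>
    intro W W' h h'
    cases h with
    | cons hk hd ho =>
      cases h' with
      | cons hk' hd' ho' =>
        refine iso_sup hB (fun x hx => ?_) (fun x hx => ?_) (disjoint_of_orth ha hB hk ho) ho ho'
          (iso_of_isBlock ha ha' hB hk hk') (ih hd hd')
        · simpa using hk.invariant X hx
        · simpa using hd.invariant X x hx

/-- The number of single blocks of length `2 k`. -/
noncomputable def oneCnt (L : List (Key F)) (k : ℕ) : ℕ := L.count (Key.one k false) + L.count (Key.one k true)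

/-- The number of blocks carrying the bit of a level. -/
noncomputable def flag (L : List (Key F)) (k : ℕ) : ℕ := L.count (Key.arf k) + L.count (Key.one (k + 1) true)

/-- The restrictions on the labels. -/
def Normal (L : List (Key F)) : Prop :=
  ∀ k, oneCnt L k ≤ 2 ∧ flag L k ≤ 1 ∧ (1 ≤ flag L k → oneCnt L k = 0) ∧
    (Key.one (k + 1) true ∈ L → Key.pair (2 * k + 1) ∉ L)

omit [CharP F 2] [FiniteDimensional F V] in
theorem normal_nil : Normal ([] : List (Key F)) := fun k => by simp [oneCnt, flag]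

omit [FiniteDimensional F V] in
theorem Dec.witness (ha : Isom B N a) (hB : B.IsAlt) {L : List (Key F)} {W : Submodule F V} (h : Dec B N a L W) :
    (∀ k c, Key.one k c ∈ L → ∃ z ∈ W, 1 ≤ k ∧ cc B N a (k - 1) z = 1 ∧ (ClassNumberSpEven.nil a ^ (2 * k - 1)) z ≠ 0) ∧
    (∀ k, Key.arf k ∈ L → ∃ z ∈ W, 1 ≤ k ∧ cc B N a (k - 1) z = 1 ∧ (ClassNumberSpEven.nil a ^ (2 * k)) z ≠ 0) ∧
    (∀ k, 1 ≤ k → Key.pair (2 * k + 1) ∈ L → ∃ z ∈ W, cc B N a (k - 1) z = 1) := by
  refine ⟨fun k c hk => ?_, fun k hk => ?_, fun k h1 hk => ?_⟩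
  · obtain ⟨U, hU, -, v, hv, rfl⟩ := h.exists_mem hk
    refine ⟨v, hU (self_mem_gen a v), hv.pos, by rw [hv.val, oneVal, if_pos (Nat.sub_add_cancel hv.pos)], fun h0 => ?_⟩
    have := hv.top ha hB
    rw [h0, map_zero, LinearMap.zero_apply] at this
    exact zero_ne_one this
  · obtain ⟨U, hU, h1, v, w, hv, rfl⟩ := h.exists_mem hk
    refine ⟨v, hU (mem_pairGen.2 ⟨1, 0, by simp⟩), h1, by rw [hv.vall, twoVal, if_pos (by omega)], fun h0 => ?_⟩
    have := hv.cross (2 * k)
    rw [h0, map_zero, LinearMap.zero_apply, if_pos (by omega)] at this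
    exact zero_ne_one this
  · obtain ⟨U, hU, v, w, hv, rfl⟩ := h.exists_mem hk
    refine ⟨v + w, hU (mem_pairGen.2 ⟨1, 1, by simp⟩), ?_⟩
    rw [cc_add ha hB, hv.vall, hv.valr, twoVal_zero, Nat.sub_add_cancel h1, zero_add, zero_add]
    have := symn_top ha (m := k) (i := 0) hv.killl (by omega) w
    rw [pow_zero, Module.End.one_apply, Nat.add_sub_cancel, hv.cross, if_pos (by omega)] at this
    exact this

omit [FiniteDimensional F V] in
theorem Normal.cons (ha : Isom B N a) (hB : B.IsAlt) {W W' U : Submodule F V} {key : Key F} {L : List (Key F)}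
    (hn : Normal L) (hUW : U ≤ W) (hW' : W' ≤ W) (ho : ∀ x ∈ U, ∀ y ∈ W', B x y = 0) (hk : IsBlock B N a key U)
    (hf : Forced B N a W key U) (hL : Dec B N a L W') : Normal (key :: L) := by
  obtain ⟨wone, warf, wpair⟩ := hL.witness ha hB
  intro m
  obtain ⟨h1, h2, h3, h4⟩ := hn m
  rcases key with ⟨Q, e⟩ | ⟨e⟩ | ⟨j⟩ | ⟨j, c⟩
  · simpa [oneCnt, flag] using And.intro h1 (And.intro h2 (And.intro h3 h4))
  · refine ⟨by simpa [oneCnt] using h1, by simpa [flag] using h2, by simpa [oneCnt, flag] using h3, fun hm hp => ?_⟩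
    simp only [List.mem_cons, reduceCtorEq, false_or] at hm
    rcases List.mem_cons.1 hp with hp | hp
    · simp only [Key.pair.injEq] at hp
      obtain ⟨z, hz, -, -, hne⟩ := wone _ _ hm
      exact hne (nil_zero_of_le (hf z (hW' hz)) (by omega))
    · exact h4 hm hp
  · obtain ⟨hf1, hf2⟩ := hf
    have horth : ∀ z ∈ W', cc B N a (j - 1) z = 0 := fun z hz => hf2 z (hW' hz) fun x hx => ho x hx z hz
    have hone : ∀ c, Key.one j c ∉ L := fun c hc => by
      obtain ⟨z, hz, -, h, -⟩ := wone _ _ hc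
      rw [horth z hz] at h
      exact zero_ne_one h
    have harf : Key.arf j ∉ L := fun hc => by
      obtain ⟨z, hz, -, h, -⟩ := warf _ hc
      rw [horth z hz] at h
      exact zero_ne_one h
    have htrue : Key.one (j + 1) true ∉ L := fun hc => by
      obtain ⟨z, hz, -, -, hne⟩ := wone _ _ hc
      exact hne (nil_zero_of_le (hf1 z (hW' hz)) (by omega))
    refine ⟨by simpa [oneCnt] using h1, ?_, ?_, fun hm hp => h4 (by simpa using hm) (by simpa using hp)⟩
    · by_cases hm : m = j
      · subst hm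
        simp [flag, List.count_eq_zero.2 harf, List.count_eq_zero.2 htrue]
      · simpa [flag, List.count_cons, Ne.symm hm] using h2
    · by_cases hm : m = j
      · subst hm
        intro _
        simp [oneCnt, List.count_eq_zero.2 (hone false), List.count_eq_zero.2 (hone true)]
      · simpa [flag, oneCnt, List.count_cons, Ne.symm hm] using h3
  · obtain ⟨hf1, hf2, hf3⟩ := hf
    obtain ⟨hc2, v, hv, rfl⟩ := hk
    have hpos := hv.pos
    have hbig : ∀ z ∈ W', ∀ i, 2 * j ≤ i → (nil a ^ i) z = 0 := fun z hz i hi =>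
      nil_zero_of_le (hf1 z (hW' hz)) hi
    have harfj : Key.arf j ∉ L := fun hc => by
      obtain ⟨z, hz, -, -, hne⟩ := warf _ hc
      exact hne (hbig z hz _ le_rfl)
    have htruej : Key.one (j + 1) true ∉ L := fun hc => by
      obtain ⟨z, hz, -, -, hne⟩ := wone _ _ hc
      exact hne (hbig z hz _ (by omega))
    have hle : oneCnt L j ≤ 1 := by
      by_contra hcon
      obtain ⟨c1, hc1⟩ : ∃ c, Key.one j c ∈ L := by
        by_contra hno
        push Not at hno
        simp [oneCnt, List.count_eq_zero.2 (hno false), List.count_eq_zero.2 (hno true)] at hcon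
      obtain ⟨c2, hc2'⟩ : ∃ c, Key.one j c ∈ L.erase (Key.one j c1) := by
        by_contra hno
        push Not at hno
        have e1 := List.count_eq_zero.2 (hno false)
        have e2 := List.count_eq_zero.2 (hno true)
        unfold oneCnt at hcon
        cases c1 <;> simp [List.count_erase] at e1 e2 <;> omega
      cases hL.perm (List.perm_cons_erase hc1) hB with
      | @cons _ _ U1 W1 hU1 hW1 ho1 =>
        obtain ⟨-, v1, hv1, rfl⟩ := hU1
        obtain ⟨U2, hU2, -, v2, hv2, rfl⟩ := hW1.exists_mem hc2'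
        have hm1 : v1 ∈ gen a v1 ⊔ W1 := Submodule.mem_sup_left (self_mem_gen a v1)
        have hm2 : v2 ∈ gen a v1 ⊔ W1 := Submodule.mem_sup_right (hU2 (self_mem_gen a v2))
        have hn : ∀ (z : V), (nil a ^ (2 * j - 1)) z ∈ gen a z := fun z => by
          rw [← aeval_lin_pow (a := a)]; exact mem_gen.2 ⟨_, rfl⟩
        have hs : ∀ (z : V) (i : ℕ), (sym N a ^ i) z ∈ gen a z := fun z i =>
          mem_gen.2 ⟨(X + X ^ (N - 1) : F[X]) ^ i, by simp [sym]⟩
        have o01 := ho _ (hn v) v1 hm1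
        have o02 := ho _ (hn v) v2 hm2
        have o12 := ho1 _ (hn v1) v2 (hU2 (self_mem_gen a v2))
        have hz : ∀ x y : V, cc B N a (j - 1) x = 1 → cc B N a (j - 1) y = 1 →
            B ((sym N a ^ (j - 1 + 1)) x) y = 0 → cc B N a (j - 1) (x + y) = 0 := fun x y hx hy hxy => by
          rw [cc_add ha hB, hx, hy, hxy, add_zero, CharTwo.add_self_eq_zero]
        have val : ∀ {z : V} {d : F}, One B N a j d z → cc B N a (j - 1) z = 1 := fun h => by
          rw [h.val, oneVal, if_pos (Nat.sub_add_cancel h.pos)]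
        have key := hf2 (v + v1) (W.add_mem (hUW (self_mem_gen a v)) (hW' hm1)) (v1 + v2)
          (W.add_mem (hW' hm1) (hW' hm2))
          (hz _ _ (val hv) (val hv1) (ho _ (hs v _) v1 hm1))
          (hz _ _ (val hv1) (val hv2) (ho1 _ (hs v1 _) v2 (hU2 (self_mem_gen a v2))))
        simp [map_add, o01, o02, o12, hv1.top ha hB] at key
    by_cases hc : c = true
    · subst hc
      have hj2 := hc2 rfl
      have horth : ∀ z ∈ W', cc B N a (j - 1) z = 0 ∧ cc B N a (j - 2) z = 0 := fun z hz =>
        hf3 rfl z (hW' hz) fun x hx => ho x hx z hz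
      have hnone : ∀ c, Key.one j c ∉ L := fun c hc => by
        obtain ⟨z, hz, -, h, -⟩ := wone _ _ hc
        rw [(horth z hz).1] at h
        exact zero_ne_one h
      have hnone' : ∀ c, Key.one (j - 1) c ∉ L := fun c hc => by
        obtain ⟨z, hz, -, h, -⟩ := wone _ _ hc
        rw [show j - 1 - 1 = j - 2 by omega, (horth z hz).2] at h
        exact zero_ne_one h
      have harf : Key.arf (j - 1) ∉ L := fun hc => by
        obtain ⟨z, hz, -, h, -⟩ := warf _ hc
        rw [show j - 1 - 1 = j - 2 by omega, (horth z hz).2] at h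
        exact zero_ne_one h
      have hpair : Key.pair (2 * (j - 1) + 1) ∉ L := fun hc => by
        obtain ⟨z, hz, h⟩ := wpair _ (by omega) hc
        rw [show j - 1 - 1 = j - 2 by omega, (horth z hz).2] at h
        exact zero_ne_one h
      by_cases hmj : m = j
      · subst hmj
        refine ⟨?_, by simpa [flag, List.count_cons] using h2, ?_, fun hm hp => h4 (by simpa using hm) (by simpa using hp)⟩
        · simp [oneCnt, List.count_cons] at hle ⊢; omega
        · simp [flag, List.count_eq_zero.2 harfj, List.count_eq_zero.2 htruej]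
      by_cases hmj' : m + 1 = j
      · subst hmj'
        rw [Nat.add_sub_cancel] at hnone' harf hpair
        refine ⟨by simpa [oneCnt, List.count_cons] using h1, ?_, ?_, fun _ hp => hpair (by simpa using hp)⟩
        · simp [flag, List.count_cons, List.count_eq_zero.2 harf, List.count_eq_zero.2 (hnone true)]
        · intro _
          simp [oneCnt, List.count_cons, List.count_eq_zero.2 (hnone' false), List.count_eq_zero.2 (hnone' true)]
      refine ⟨by simpa [oneCnt, List.count_cons, Ne.symm hmj] using h1,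
        by simpa [flag, List.count_cons, Ne.symm hmj'] using h2,
        by simpa [flag, oneCnt, List.count_cons, Ne.symm hmj, Ne.symm hmj'] using h3, fun hm hp => ?_⟩
      exact h4 (by simpa [Ne.symm hmj', hmj'] using hm) (by simpa using hp)
    · rw [Bool.not_eq_true] at hc
      subst hc
      refine ⟨?_, by simpa [flag] using h2, ?_, fun hm hp => h4 (by simpa using hm) (by simpa using hp)⟩
      · by_cases hmj : m = j
        · subst hmj
          simp [oneCnt, List.count_cons] at hle ⊢; omega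
        · simpa [oneCnt, List.count_cons, Ne.symm hmj] using h1
      · by_cases hmj : m = j
        · subst hmj
          simp [flag, List.count_eq_zero.2 harfj, List.count_eq_zero.2 htruej]
        · simpa [flag, oneCnt, List.count_cons, Ne.symm hmj] using h3

theorem exists_block [Finite F] (ha : Isom B N a) (hB : B.IsAlt) {W : Submodule F V} (hW : Piece B a W)
    (hne : W ≠ ⊥) : ∃ k : Key F, ∃ U ≤ W, IsBlock B N a k U ∧ Forced B N a W k U := by
  obtain ⟨μ, hm, hdeg, hμN, hμd, hμ0, hμ⟩ := hW.exists_minpoly ha hB hne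
  by_cases hP : ∃ P : F[X], P.Monic ∧ Irreducible P ∧ P ∣ μ ∧ ¬ P ∣ X ^ 2 - 1
  · obtain ⟨P, hPm, hPi, hPμ, hPX⟩ := hP
    exact exists_cyc_block ha hB hW hm hμN hμd hμ0 hμ hPm hPi hPμ hPX
  push Not at hP
  have hdiv : μ ∣ (X - C (1 : F)) ^ μ.natDegree := by
    obtain ⟨q, hq, hqr⟩ := exists_eq_pow_rootMultiplicity_mul_and_not_dvd μ hm.ne_zero 1
    have hi : μ.rootMultiplicity 1 ≤ μ.natDegree := (rootMultiplicity_le_iff hm.ne_zero _ _).2 fun h => by
      have := natDegree_le_of_dvd h hm.ne_zero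
      rw [natDegree_pow, natDegree_X_sub_C] at this
      omega
    suffices hu : IsUnit q by
      exact (dvd_of_eq hq).trans (hu.mul_right_dvd.2 (pow_dvd_pow _ hi))
    by_contra hu
    obtain ⟨P, hPm, hPi, hPq⟩ := Polynomial.exists_monic_irreducible_factor q hu
    have hX : (X : F[X]) ^ 2 - 1 = (X - C 1) ^ 2 := by
      rw [map_one]
      linear_combination (X - 1) * (CharTwo.two_eq_zero (R := F[X]))
    have hPX := hP P hPm hPi ((hPq.mul_left _).trans (dvd_of_eq hq.symm))
    rw [hX] at hPX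
    exact hqr ((hPi.associated_of_dvd (irreducible_X_sub_C _) (hPi.prime.dvd_of_dvd_pow hPX)).dvd_iff_dvd_left.1 hPq)
  exact exists_unip_block ha hB hW hne ⟨μ.natDegree, fun y hy => by
    rw [← aeval_lin_pow (a := a)]; exact (hμ _).2 hdiv y hy⟩

/-- Every piece has a decomposition in normal form. -/
theorem exists_dec [Finite F] (ha : Isom B N a) (hB : B.IsAlt) :
    ∀ (d : ℕ) (W : Submodule F V), Piece B a W → Module.finrank F W ≤ d → ∃ L, Dec B N a L W ∧ Normal L := by
  intro d
  induction d with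
  | zero =>
    intro W _ hd
    rw [Nat.le_zero, Submodule.finrank_eq_zero] at hd
    subst hd
    exact ⟨[], Dec.nil, normal_nil⟩
  | succ d ih =>
    intro W hW hd
    rcases eq_or_ne W ⊥ with rfl | hne
    · exact ⟨[], Dec.nil, normal_nil⟩
    obtain ⟨k, U, hUW, hk, hforced⟩ := exists_block ha hB hW hne
    let β : U →ₗ[F] Module.Dual F U := (B.compl₁₂ U.subtype U.subtype)
    have hβ : Function.Injective β := (injective_iff_map_eq_zero β).2 fun x hx =>
      Subtype.ext (hk.nondeg ha hB x.2 fun y hy => LinearMap.congr_fun hx ⟨y, hy⟩)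
    have hβs : Function.Surjective β :=
      (LinearMap.injective_iff_surjective_of_finrank_eq_finrank (Subspace.dual_finrank_eq).symm).1 hβ
    let W' : Submodule F V := W ⊓ B.orthogonal U
    have hmem : ∀ y, y ∈ W' ↔ y ∈ W ∧ ∀ x ∈ U, B x y = 0 := fun y => by
      simp only [W', Submodule.mem_inf, LinearMap.BilinForm.mem_orthogonal_iff, LinearMap.BilinForm.isOrtho_def]
    have ho : ∀ x ∈ U, ∀ y ∈ W', B x y = 0 := fun x hx y hy => ((hmem y).1 hy).2 x hx
    have hsup : U ⊔ W' = W := by
      refine le_antisymm (sup_le hUW inf_le_left) fun x hx => ?_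
      obtain ⟨u, hu⟩ := hβs ((B x).comp U.subtype)
      refine Submodule.mem_sup.2 ⟨u, u.2, x - u, (hmem _).2 ⟨W.sub_mem hx (hUW u.2), fun y hy => ?_⟩, by abel⟩
      have := LinearMap.congr_fun hu ⟨y, hy⟩
      rw [alt_neg hB, map_sub, LinearMap.sub_apply]
      simp only [β, LinearMap.compl₁₂_apply, Submodule.subtype_apply, LinearMap.comp_apply] at this
      rw [this, sub_self, neg_zero]
    have hW' : Piece B a W' := by
      refine ⟨fun f x hx => (hmem _).2 ⟨hW.invariant f x ((hmem x).1 hx).1, fun y hy => ?_⟩, fun x hx hxo => ?_⟩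
      · rw [alt_neg hB, ha.adjoint, alt_neg hB, neg_neg]
        exact ho _ (hk.invariant _ hy) x hx
      · refine hW.nondeg x ((hmem x).1 hx).1 fun y hy => ?_
        rw [← hsup] at hy
        obtain ⟨p, hp, q, hq, rfl⟩ := Submodule.mem_sup.1 hy
        rw [map_add, hxo q hq, add_zero, alt_neg hB, ho p hp x hx, neg_zero]
    have hlt : Module.finrank F W' ≤ d := by
      have h1 := Submodule.finrank_sup_add_finrank_inf_eq U W'
      rw [hsup, (disjoint_of_orth ha hB hk ho).eq_bot, finrank_bot, add_zero, hk.finrank ha hB] at h1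
      have : 1 ≤ k.size := by
        rcases k with ⟨Q, e⟩ | ⟨e⟩ | ⟨j⟩ | ⟨j, c⟩ <;> simp only [Key.size]
        · obtain ⟨hQ, he, -⟩ := hk
          exact Nat.mul_pos (by have := (goodQ_props hQ).2.2.2.2; omega) he
        · obtain ⟨v, w, hp, -⟩ := hk
          have := hp.pos
          omega
        · omega
        · obtain ⟨-, v, hv, -⟩ := hk
          have := hv.pos
          omega
      omega
    obtain ⟨L, hL, hLn⟩ := ih W' hW' hlt
    exact ⟨k :: L, hsup ▸ Dec.cons hk hL ho, hLn.cons ha hB hUW inf_le_left ho hk hforced hL⟩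

end Cfsg.Lib.ClassNumberSpEven
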