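import Cfsg.Agent.Known.ClassNumberSpEven.Basic
import Mathlib

/-! Standard unipotent blocks in characteristic two. -/

set_option autoImplicit false
set_option linter.style.haveILetI false

open Polynomial

namespace Cfsg.Lib.ClassNumberSpEven

open Cfsg.Lib.ClassNumberSp (Isom Cyc IsoOn gen mem_gen self_mem_gen pairGen mem_pairGen alt_neg aeval_mul_apply
  psi psi_mk range_psi pairPsi top_smul cyc_of_top)

universe u v w

variable {F : Type u} [Field F] {V : Type v} [AddCommGroup V] [Module F V]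
variable {B : LinearMap.BilinForm F V} {N : ℕ} {a a' : Module.End F V}

/-- Two parametrisations with the same form and nondegenerate images give an isometry. -/
theorem iso_of_param {M : Type w} [AddCommGroup M] [Module F M] (Φ Φ' : M →ₗ[F] V) (X0 : Module.End F M)
    (hX : ∀ m, Φ (X0 m) = a (Φ m)) (hX' : ∀ m, Φ' (X0 m) = a' (Φ' m))
    (hB : ∀ m m', B (Φ' m) (Φ' m') = B (Φ m) (Φ m'))
        (hn' : ∀ x ∈ LinearMap.range Φ', (∀ y ∈ LinearMap.range Φ', B x y = 0) → x = 0) :
    IsoOn B a a' (LinearMap.range Φ) (LinearMap.range Φ') := by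
  have hker : LinearMap.ker Φ ≤ LinearMap.ker Φ' := by
    intro m hm
    rw [LinearMap.mem_ker] at hm ⊢
    refine hn' _ (LinearMap.mem_range_self _ m) ?_
    rintro y ⟨m', rfl⟩
    rw [hB, hm, map_zero, LinearMap.zero_apply]
  let f : LinearMap.range Φ →ₗ[F] V :=
    ((LinearMap.ker Φ).liftQ Φ' hker).comp (Φ.quotKerEquivRange.symm : LinearMap.range Φ →ₗ[F] M ⧸ LinearMap.ker Φ)
  have hf : ∀ m (h : Φ m ∈ LinearMap.range Φ), f ⟨Φ m, h⟩ = Φ' m := fun m h => by
    simp only [f, LinearMap.comp_apply, LinearEquiv.coe_coe]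
    rw [LinearMap.quotKerEquivRange_symm_apply_image Φ m h, Submodule.mkQ_apply, Submodule.liftQ_apply]
  refine ⟨f, le_antisymm ?_ ?_, ?_, ?_⟩
  · rintro y ⟨⟨x, m, rfl⟩, rfl⟩
    exact ⟨m, (hf m _).symm⟩
  · rintro y ⟨m, rfl⟩
    exact ⟨⟨Φ m, LinearMap.mem_range_self _ m⟩, hf m _⟩
  · rintro ⟨x, m, rfl⟩ ⟨y, m', rfl⟩
    exact (congrArg₂ (fun x y => B x y) (hf m _) (hf m' _)).trans (hB m m')
  · rintro ⟨x, m, rfl⟩ hx
    have e : (⟨a (Φ m), hx⟩ : LinearMap.range Φ) = ⟨Φ (X0 m), LinearMap.mem_range_self _ _⟩ := Subtype.ext (hX m).symm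
    exact ((congrArg f e).trans (hf _ _)).trans ((hX' m).trans (congrArg a' (hf m _).symm))

/-- The coefficients of the standard single block. -/
def oneVal (k : ℕ) (d : F) (j : ℕ) : F := if j + 1 = k then 1 else if j + 2 = k then d else 0

/-- The coefficients of the generators of the standard paired block. -/
def twoVal (e : ℕ) (g : F) (j : ℕ) : F := if 2 * j + 3 = e then g else 0

theorem twoVal_zero (e j : ℕ) : twoVal e (0 : F) j = 0 := by simp [twoVal]

/-- A standard single block of length `2 k`. -/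
structure One (B : LinearMap.BilinForm F V) (N : ℕ) (a : Module.End F V) (k : ℕ) (d : F) (v : V) : Prop where
  pos : 1 ≤ k
  kill : (nil a ^ (2 * k)) v = 0
  val : ∀ j, cc B N a j v = oneVal k d j

/-- A standard paired block of length `e`. -/
structure Two (B : LinearMap.BilinForm F V) (N : ℕ) (a : Module.End F V) (e : ℕ) (g h : F) (v w : V) : Prop where
  pos : 1 ≤ e
  killl : (nil a ^ e) v = 0
  killr : (nil a ^ e) w = 0
  vall : ∀ j, cc B N a j v = twoVal e g j
  valr : ∀ j, cc B N a j w = twoVal e h j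
  cross : ∀ j, B ((nil a ^ j) v) w = if j + 1 = e then 1 else 0

variable [CharP F 2] {k e : ℕ} {d g h : F} {v w v' w' : V}

theorem One.top (ha : Isom B N a) (hB : B.IsAlt) (ho : One B N a k d v) :
    B ((nil a ^ (2 * k - 1)) v) v = 1 := by
  rw [top_self_even ha hB ho.kill ho.pos, ho.val, oneVal, if_pos (Nat.sub_add_cancel ho.pos)]

omit [CharP F 2] in
theorem reverse_lin_pow [CharP F 2] (m : ℕ) : ((X - C (1 : F)) ^ m).reverse = (X - C (1 : F)) ^ m := by
  have h := ClassNumberSp.reverse_linear_pow (F := F) true m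
  simpa [ClassNumberSp.sgn, CharTwo.neg_eq] using h

theorem One.cyc (ha : Isom B N a) (hB : B.IsAlt) (ho : One B N a k d v) :
    Cyc B a ((X - C 1) ^ (2 * k)) v :=
  cyc_of_top (by have := ho.pos; omega) (reverse_lin_pow _) (by rw [aeval_lin_pow, ho.kill])
    (by rw [aeval_lin_pow, ho.top ha hB]; exact one_ne_zero)

theorem iso_of_one (ha : Isom B N a) (ha' : Isom B N a') (hB : B.IsAlt) (ho : One B N a k d v)
    (ho' : One B N a' k d v') : IsoOn B a a' (gen a v) (gen a' v') :=
  ClassNumberSp.iso_of_eq ha ha' (ho.cyc ha hB) (ho'.cyc ha' hB) hB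
    fun f => self_gram ha ha' hB (fun j => by rw [ho.val, ho'.val]) f

theorem Two.topv (ha : Isom B N a) (hB : B.IsAlt) (ht : Two B N a e g h v w) :
    B ((nil a ^ (e - 1)) v) v = 0 ∧ B ((nil a ^ (e - 1)) w) w = 0 ∧
      B ((nil a ^ (e - 1)) v) w = 1 ∧ B ((nil a ^ (e - 1)) w) v = 1 := by
  have he := ht.pos
  have h1 : B ((nil a ^ (e - 1)) v) w = 1 := by rw [ht.cross, if_pos (Nat.sub_add_cancel he)]
  have h2 : B ((nil a ^ (e - 1)) w) v = 1 := by rw [← h1]; exact top_symm ha ht.killl he hB w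
  rcases Nat.even_or_odd' e with ⟨i, rfl | rfl⟩
  · refine ⟨?_, ?_, h1, h2⟩
    · rw [top_self_even ha hB ht.killl (by omega), ht.vall, twoVal, if_neg (by omega)]
    · rw [top_self_even ha hB ht.killr (by omega), ht.valr, twoVal, if_neg (by omega)]
  · exact ⟨top_self_odd ha hB ht.killl, top_self_odd ha hB ht.killr, h1, h2⟩

theorem Two.dvd_of_orth (ha : Isom B N a) (hB : B.IsAlt) (ht : Two B N a e g h v w) (p q : F[X])
    (horth : ∀ y ∈ pairGen a v w, B (aeval a p v + aeval a q w) y = 0) :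
    (X - C 1) ^ e ∣ p ∧ (X - C 1) ^ e ∣ q := by
  obtain ⟨hvv, hww, hvw, hwv⟩ := ht.topv ha hB
  suffices h : ∀ j ≤ e, (X - C (1 : F)) ^ j ∣ p ∧ (X - C (1 : F)) ^ j ∣ q from h e le_rfl
  intro j
  induction j with
  | zero => simp
  | succ j ih =>
    intro hj
    obtain ⟨⟨p', hp⟩, ⟨q', hq⟩⟩ := ih (by omega)
    set L : F[X] := X - C 1 with hL
    have hpow : L ^ (e - 1 - j) * L ^ j = L ^ (e - 1) := by rw [← pow_add]; congr 1; omega
    have hx : ∀ y ∈ pairGen a v w, B (aeval a (p' * L ^ (e - 1)) v + aeval a (q' * L ^ (e - 1)) w) y = 0 := by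
      intro y hy
      have e1 : aeval a (p' * L ^ (e - 1)) v + aeval a (q' * L ^ (e - 1)) w =
          aeval a (L ^ (e - 1 - j)) (aeval a p v + aeval a q w) := by
        rw [map_add, ← aeval_mul_apply, ← aeval_mul_apply, hp, hq, ← hpow]
        congr 3 <;> ring
      rw [e1, ha.adjoint]
      refine horth _ ?_
      obtain ⟨r, s, rfl⟩ := mem_pairGen.1 hy
      rw [map_add, ← aeval_mul_apply, ← aeval_mul_apply]
      exact mem_pairGen.2 ⟨_, _, rfl⟩
    have kl : aeval a (L ^ e) v = 0 := by rw [hL, aeval_lin_pow, ht.killl]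
    have kr : aeval a (L ^ e) w = 0 := by rw [hL, aeval_lin_pow, ht.killr]
    rw [hL, top_smul ht.pos kl, top_smul ht.pos kr, aeval_lin_pow] at hx
    have hw := hx w (mem_pairGen.2 ⟨0, 1, by simp⟩)
    have hv := hx v (mem_pairGen.2 ⟨1, 0, by simp⟩)
    simp only [map_add, map_smul, LinearMap.add_apply, LinearMap.smul_apply, smul_eq_mul, hvv, hww, hvw, hwv,
      mul_zero, mul_one, add_zero, zero_add] at hw hv
    rw [hp, hq, pow_succ]
    exact ⟨mul_dvd_mul_left _ (dvd_iff_isRoot.2 hw), mul_dvd_mul_left _ (dvd_iff_isRoot.2 hv)⟩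

theorem Two.gen_nondeg (ha : Isom B N a) (hB : B.IsAlt) (ht : Two B N a e g h v w) {x : V}
    (hx : x ∈ pairGen a v w) (ho : ∀ y ∈ pairGen a v w, B x y = 0) : x = 0 := by
  obtain ⟨p, q, rfl⟩ := mem_pairGen.1 hx
  obtain ⟨⟨p', rfl⟩, ⟨q', rfl⟩⟩ := ht.dvd_of_orth ha hB p q ho
  rw [mul_comm _ p', mul_comm _ q', aeval_mul_apply, aeval_mul_apply, aeval_lin_pow, ht.killl, ht.killr, map_zero,
    map_zero, add_zero]

theorem Two.range_pairPsi (ht : Two B N a e g h v w) : LinearMap.range (pairPsi a (1 : F) e v w) = pairGen a v w := by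
  rw [pairPsi, LinearMap.range_coprod, range_psi _ (by rw [aeval_lin_pow, ht.killl]),
    range_psi _ (by rw [aeval_lin_pow, ht.killr]), pairGen]

theorem Two.pairPsi_mk (ht : Two B N a e g h v w) (p q : F[X]) :
    pairPsi a (1 : F) e v w (AdjoinRoot.mk _ p, AdjoinRoot.mk _ q) = aeval a p v + aeval a q w := by
  rw [pairPsi, LinearMap.coprod_apply, psi_mk _ (by rw [aeval_lin_pow, ht.killl]),
    psi_mk _ (by rw [aeval_lin_pow, ht.killr])]

theorem Two.finrank_gen (ha : Isom B N a) (hB : B.IsAlt) (ht : Two B N a e g h v w) :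
    Module.finrank F (pairGen a v w) = 2 * e := by
  have hm : ((X - C (1 : F)) ^ e).Monic := (monic_X_sub_C 1).pow e
  haveI : Module.Finite F (AdjoinRoot ((X - C (1 : F)) ^ e)) := hm.finite_adjoinRoot
  have hinj : Function.Injective (pairPsi a (1 : F) e v w) := by
    refine (injective_iff_map_eq_zero _).2 fun r hr => ?_
    obtain ⟨r, s⟩ := r
    obtain ⟨p, rfl⟩ := AdjoinRoot.mk_surjective r
    obtain ⟨q, rfl⟩ := AdjoinRoot.mk_surjective s
    rw [ht.pairPsi_mk] at hr
    obtain ⟨hp, hq⟩ := ht.dvd_of_orth ha hB p q fun y _ => by rw [hr, map_zero, LinearMap.zero_apply]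
    rw [Prod.mk_eq_zero, AdjoinRoot.mk_eq_zero, AdjoinRoot.mk_eq_zero]
    exact ⟨hp, hq⟩
  rw [← ht.range_pairPsi, LinearMap.finrank_range_of_inj hinj, Module.finrank_prod,
    (PowerBasis.finrank (AdjoinRoot.powerBasis' hm)), AdjoinRoot.powerBasis'_dim, natDegree_pow, natDegree_X_sub_C]
  ring

/-- The evaluation of pairs of polynomials. -/
noncomputable def pairMap (a : Module.End F V) (v w : V) : F[X] × F[X] →ₗ[F] V :=
  ((LinearMap.applyₗ v).comp (aeval a).toLinearMap).coprod ((LinearMap.applyₗ w).comp (aeval a).toLinearMap)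

omit [CharP F 2] in
theorem pairMap_apply (p q : F[X]) : pairMap a v w (p, q) = aeval a p v + aeval a q w := rfl

theorem iso_of_two (ha : Isom B N a) (ha' : Isom B N a') (hB : B.IsAlt) (ht : Two B N a e g h v w)
    (ht' : Two B N a' e g h v' w') : IsoOn B a a' (pairGen a v w) (pairGen a' v' w') := by
  have hr : ∀ (b : Module.End F V) (x y : V), LinearMap.range (pairMap b x y) = pairGen b x y := fun b x y => by
    rw [pairMap, LinearMap.range_coprod]; rfl
  have hpair : ∀ (b : Module.End F V), Isom B N b → ∀ (x y : V) (p q : F[X]),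
      B (aeval b p x) (aeval b q y) = B (aeval b (ClassNumberSp.star N q * p) x) y := by
    intro b hb x y p q
    rw [alt_symm hB, hb.adjoint, alt_symm hB, ← aeval_mul_apply]
  have hvw : ∀ f, B (aeval a' f v') w' = B (aeval a f v) w :=
    cross_gram fun j => by rw [ht.cross, ht'.cross]
  have hvv : ∀ f, B (aeval a' f v') v' = B (aeval a f v) v :=
    self_gram ha ha' hB fun j => by rw [ht.vall, ht'.vall]
  have hww : ∀ f, B (aeval a' f w') w' = B (aeval a f w) w :=
    self_gram ha ha' hB fun j => by rw [ht.valr, ht'.valr]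
  have hwv : ∀ p q, B (aeval a' p w') (aeval a' q v') = B (aeval a p w) (aeval a q v) := fun p q => by
    rw [alt_symm hB, hpair a' ha', hvw, ← hpair a ha, alt_symm hB]
  let X0 : Module.End F (F[X] × F[X]) := (LinearMap.mulLeft F (X : F[X])).prodMap (LinearMap.mulLeft F (X : F[X]))
  have hX : ∀ (b : Module.End F V) (x y : V) (m : F[X] × F[X]), pairMap b x y (X0 m) = b (pairMap b x y m) := by
    rintro b x y ⟨p, q⟩
    rw [show X0 (p, q) = (X * p, X * q) from rfl, pairMap_apply, pairMap_apply, map_add, aeval_mul_apply,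
      aeval_mul_apply, aeval_X]
  have key := iso_of_param (B := B) (pairMap a v w) (pairMap a' v' w') X0 (hX a v w) (hX a' v' w') ?_ ?_
  · rwa [hr, hr] at key
  · rintro ⟨p, q⟩ ⟨r, s⟩
    simp only [pairMap_apply, map_add, LinearMap.add_apply, hwv]
    simp only [hpair a' ha', hpair a ha, hvv, hvw, hww]
  · intro x hx ho; rw [hr] at hx ho; exact ht'.gen_nondeg ha' hB hx ho

end Cfsg.Lib.ClassNumberSpEven
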