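import Cfsg.Agent.Known.ClassNumberSpEven.Frame
import Mathlib

/-! Bringing unipotent blocks in characteristic two to standard shape. -/

set_option autoImplicit false
set_option linter.style.haveILetI false

open Polynomial

namespace Cfsg.Lib.ClassNumberSpEven

open Cfsg.Lib.ClassNumberSp (Isom Piece)

universe u v

variable {F : Type u} [Field F] [CharP F 2]

/-- The additive map `x ↦ x ^ 2 + x`. -/
def asHom (F : Type u) [Field F] [CharP F 2] : F →+ F where
  toFun x := x * x + x
  map_zero' := by simp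
  map_add' x y := by
    have : (x + y) * (x + y) = x * x + y * y := by
      linear_combination x * y * (CharTwo.two_eq_zero (R := F))
    rw [this]; abel

theorem asHom_index [Finite F] : (asHom F).range.index = 2 := by
  classical
  haveI := Fintype.ofFinite F
  have hk : ((asHom F).ker : Set F) = {0, 1} := by
    ext x
    simp only [SetLike.mem_coe, AddMonoidHom.mem_ker, Set.mem_insert_iff, Set.mem_singleton_iff]
    refine ⟨fun h => ?_, ?_⟩
    · have h1 : x * (x + 1) = 0 := by
        rw [mul_add, mul_one]; exact h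
      rcases mul_eq_zero.1 h1 with h1 | h1
      · exact Or.inl h1
      · exact Or.inr (CharTwo.add_eq_zero.1 h1)
    · rintro (rfl | rfl) <;> simp [asHom, CharTwo.two_eq_zero, CharTwo.add_self_eq_zero]
  have hk2 : Nat.card (asHom F).ker = 2 := by
    rw [← SetLike.coe_sort_coe, hk, Nat.card_coe_set_eq, Set.ncard_pair zero_ne_one]
  have h1 := AddSubgroup.card_mul_index (asHom F).range
  have h2 := AddSubgroup.card_mul_index (asHom F).ker
  rw [AddSubgroup.index_ker, hk2] at h2
  have hpos : 0 < Nat.card (asHom F).range := Nat.card_pos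
  nlinarith

/-- An element outside the image of `x ↦ x ^ 2 + x`. -/
noncomputable def del (F : Type u) [Field F] [CharP F 2] : F :=
  letI := Classical.dec (∃ d : F, ∀ x : F, x * x + x ≠ d)
  if h : ∃ d : F, ∀ x : F, x * x + x ≠ d then Classical.choose h else 0

theorem del_spec [Finite F] (x : F) : x * x + x ≠ del F := by
  have h : ∃ d : F, ∀ x : F, x * x + x ≠ d := by
    by_contra hcon
    push Not at hcon
    have : (asHom F).range = ⊤ := eq_top_iff.2 fun d _ => hcon d
    have h2 := asHom_index (F := F)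
    rw [this, AddSubgroup.index_top] at h2
    omega
  rw [del, dif_pos h]
  exact Classical.choose_spec h x

theorem as_sum [Finite F] {c : F} (hc : ∀ x : F, x * x + x ≠ c) : ∃ x : F, x * x + x = c + del F :=
  (AddSubgroup.add_mem_iff_of_index_two (asHom_index (F := F))).2
    (iff_of_false (fun ⟨x, hx⟩ => hc x hx) (fun ⟨x, hx⟩ => del_spec x hx))

theorem exists_sq [Finite F] (c : F) : ∃ x : F, x * x = c := by
  obtain ⟨x, hx⟩ := FiniteField.isSquare_of_char_two (ringChar.eq F 2) c
  exact ⟨x, hx.symm⟩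

variable {V : Type v} [AddCommGroup V] [Module F V]
variable {B : LinearMap.BilinForm F V} {N : ℕ} {a : Module.End F V} {W : Submodule F V}

omit [CharP F 2] in
theorem sym_move (ha : Isom B N a) (m i : ℕ) (x y : V) :
    B ((sym N a ^ m) x) ((sym N a ^ i) y) = B ((sym N a ^ (i + m)) x) y := by
  rw [← sym_adj ha, sym_add]

theorem nil_mem (hW : Piece B a W) (i : ℕ) {x : V} (hx : x ∈ W) : (nil a ^ i) x ∈ W := by
  rw [← aeval_lin_pow (a := a)]; exact hW.invariant _ x hx

omit [CharP F 2] in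
theorem sym_mem (hW : Piece B a W) (i : ℕ) {x : V} (hx : x ∈ W) : (sym N a ^ i) x ∈ W := by
  have : sym N a ^ i = aeval a ((X + X ^ (N - 1) : F[X]) ^ i) := by simp [sym]
  rw [this]; exact hW.invariant _ x hx

omit [CharP F 2] in
theorem kill_sym {e : ℕ} (i : ℕ) {x : V} (h : (nil a ^ e) x = 0) : (nil a ^ e) ((sym N a ^ i) x) = 0 := by
  rw [nil_sym, h, map_zero]

omit [CharP F 2] in
theorem kill_nil {e : ℕ} (i : ℕ) {x : V} (h : (nil a ^ e) x = 0) : (nil a ^ e) ((nil a ^ i) x) = 0 := by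
  rw [← Module.End.mul_apply, ← pow_add, nil_zero_of_le h (by omega)]

/-- The index of the top coefficient in a block of length `e`. -/
def topIx (e : ℕ) : ℕ := e / 2 - 1

/-- Killing the lower coefficients of a single block. -/
theorem one_norm (ha : Isom B N a) (hB : B.IsAlt) (hW : Piece B a W) {k : ℕ} (hk : 1 ≤ k) {d : F} {v : V}
    (hv : v ∈ W) (hkill : (nil a ^ (2 * k)) v = 0) (h1 : cc B N a (k - 1) v = 1)
    (h2 : 2 ≤ k → cc B N a (k - 2) v = d) : ∃ v' ∈ W, One B N a k d v' := by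
  suffices h : ∀ m, ∃ v' ∈ W, (nil a ^ (2 * k)) v' = 0 ∧ ∀ j, k ≤ j + 2 + m → cc B N a j v' = oneVal k d j by
    obtain ⟨v', hv', hkill', hval⟩ := h k
    exact ⟨v', hv', hk, hkill', fun j => hval j (by omega)⟩
  intro m
  induction m with
  | zero =>
    refine ⟨v, hv, hkill, fun j hj => ?_⟩
    rcases Nat.lt_or_ge j k with hjk | hjk
    · rw [oneVal]
      by_cases e1 : j + 1 = k
      · rw [if_pos e1, ← h1]; congr 1; omega
      · rw [if_neg e1, if_pos (by omega), ← h2 (by omega)]; congr 1; omega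
    · rw [cc_high_even ha hkill hjk, oneVal, if_neg (by omega), if_neg (by omega)]
  | succ m ih =>
    obtain ⟨x, hx, hxk, hxv⟩ := ih
    by_cases hlt : k < m + 3
    · exact ⟨x, hx, hxk, fun j _ => hxv j (by omega)⟩
    set c := cc B N a (k - 3 - m) x
    refine ⟨x + c • (sym N a ^ (m + 1)) (nil a x), W.add_mem hx (W.smul_mem _ (sym_mem hW _ ?_)), ?_, fun j hj => ?_⟩
    · simpa using nil_mem hW 1 hx
    · rw [map_add, map_smul, hxk, kill_sym _ (by simpa using kill_nil 1 hxk), smul_zero, add_zero]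
    · rw [cc_add ha hB, cc_smul, map_smul, smul_eq_mul, sym_move ha, cross_nil_self ha hB, cc_sym ha, cc_nil ha hB]
      have htop : cc B N a (k - 1) x = 1 := by
        rw [hxv _ (by omega), oneVal, if_pos (by omega)]
      have hz : cc B N a (j + 2 * (m + 1) + 1) x = 0 := cc_high_even ha hxk (by omega)
      rw [hz, mul_zero, add_zero]
      by_cases hj0 : j = k - 3 - m
      · rw [oneVal, if_neg (by omega), if_neg (by omega), show m + 1 + (j + 1) = k - 1 by omega, htop, mul_one, hj0]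
        exact CharTwo.add_self_eq_zero _
      · rw [cc_high_even ha hxk (j := m + 1 + (j + 1)) (by omega), mul_zero, add_zero]
        exact hxv j (by omega)

/-- Fixing the coefficients of a vector in a pair of odd length. -/
theorem fix_odd (ha : Isom B N a) (hB : B.IsAlt) (hW : Piece B a W) {k : ℕ} {v w : V} (hv : v ∈ W) (hw : w ∈ W)
    (hkv : (nil a ^ (2 * k + 1)) v = 0) (hkw : (nil a ^ (2 * k + 1)) w = 0)
    (hvw : B ((nil a ^ (2 * k)) v) w = 1) :
    ∃ v' ∈ W, (nil a ^ (2 * k + 1)) v' = 0 ∧ B ((nil a ^ (2 * k)) v') w = 1 ∧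
      ∀ j, cc B N a j v' = twoVal (2 * k + 1) (cc B N a (k - 1) v) j := by
  set g := cc B N a (k - 1) v with hg
  suffices h : ∀ m, ∃ v' ∈ W, (nil a ^ (2 * k + 1)) v' = 0 ∧ B ((nil a ^ (2 * k)) v') w = 1 ∧
      ∀ j, k ≤ j + 1 + m → cc B N a j v' = twoVal (2 * k + 1) g j by
    obtain ⟨v', h1, h2, h3, h4⟩ := h k
    exact ⟨v', h1, h2, h3, fun j => h4 j (by omega)⟩
  intro m
  induction m with
  | zero =>
    refine ⟨v, hv, hkv, hvw, fun j hj => ?_⟩
    rw [twoVal]
    split_ifs with e1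
    · rw [hg]; congr 1; omega
    · rw [cc_high_odd ha hB hkv (by omega)]
  | succ m ih =>
    obtain ⟨x, hx, hxk, hxw, hxv⟩ := ih
    by_cases hlt : k < m + 2
    · exact ⟨x, hx, hxk, hxw, fun j _ => hxv j (by omega)⟩
    set c := cc B N a (k - 2 - m) x
    refine ⟨x + c • (sym N a ^ (m + 1)) w, W.add_mem hx (W.smul_mem _ (sym_mem hW _ hw)), ?_, ?_, fun j hj => ?_⟩
    · rw [map_add, map_smul, hxk, kill_sym _ hkw, smul_zero, add_zero]
    · simp only [map_add, map_smul, LinearMap.add_apply, LinearMap.smul_apply, hxw]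
      rw [nil_sym, sym_zero ha (e := 1) ?_ (by omega), smul_zero, add_zero]
      rw [pow_one, ← Module.End.mul_apply, ← pow_succ', hkw]
    · rw [cc_add ha hB, cc_smul, map_smul, smul_eq_mul, sym_move ha, cc_sym ha]
      have hz : cc B N a (j + 2 * (m + 1)) w = 0 := cc_high_odd ha hB hkw (by omega)
      rw [hz, mul_zero, add_zero]
      by_cases hj0 : j = k - 2 - m
      · have := symn_top ha (m := k) (i := 0) hxk (by omega) w
        rw [pow_zero, Module.End.one_apply, Nat.add_sub_cancel, hxw] at this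
        rw [twoVal, if_neg (by omega), show m + 1 + (j + 1) = k by omega, this, mul_one, hj0]
        exact CharTwo.add_self_eq_zero _
      · rw [sym_zero ha hxk (by omega), mul_zero, add_zero]
        exact hxv j (by omega)

/-- Fixing the coefficients of a vector in a pair of even length. -/
theorem fix_even (ha : Isom B N a) (hB : B.IsAlt) (hW : Piece B a W) {k : ℕ} (hk : 1 ≤ k) {v w : V} (hv : v ∈ W)
    (hw : w ∈ W) (hkv : (nil a ^ (2 * k)) v = 0) (hkw : (nil a ^ (2 * k)) w = 0)
    (hvw : B ((nil a ^ (2 * k - 1)) v) w = 1) (hqv : cc B N a (k - 1) v = 0) (hqw : cc B N a (k - 1) w = 0) :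
    ∃ v' ∈ W, (nil a ^ (2 * k)) v' = 0 ∧ B ((nil a ^ (2 * k - 1)) v') w = 1 ∧ ∀ j, cc B N a j v' = 0 := by
  suffices h : ∀ m, ∃ v' ∈ W, (nil a ^ (2 * k)) v' = 0 ∧ B ((nil a ^ (2 * k - 1)) v') w = 1 ∧
      ∀ j, k ≤ j + 1 + m → cc B N a j v' = 0 by
    obtain ⟨v', h1, h2, h3, h4⟩ := h k
    exact ⟨v', h1, h2, h3, fun j => h4 j (by omega)⟩
  intro m
  induction m with
  | zero =>
    refine ⟨v, hv, hkv, hvw, fun j hj => ?_⟩
    rcases Nat.lt_or_ge j k with hjk | hjk
    · rw [show j = k - 1 by omega, hqv]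
    · exact cc_high_even ha hkv hjk
  | succ m ih =>
    obtain ⟨x, hx, hxk, hxw, hxv⟩ := ih
    by_cases hlt : k < m + 2
    · exact ⟨x, hx, hxk, hxw, fun j _ => hxv j (by omega)⟩
    set c := cc B N a (k - 2 - m) x
    refine ⟨x + c • (sym N a ^ m) (nil a w), W.add_mem hx (W.smul_mem _ (sym_mem hW _ ?_)), ?_, ?_, fun j hj => ?_⟩
    · simpa using nil_mem hW 1 hw
    · rw [map_add, map_smul, hxk, kill_sym _ (by simpa using kill_nil 1 hkw), smul_zero, add_zero]
    · rw [map_add, map_smul, map_add, LinearMap.add_apply, hxw, nil_sym,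
        show (nil a ^ (2 * k - 1)) (nil a w) = 0 by
          rw [← Module.End.mul_apply, ← pow_succ, show 2 * k - 1 + 1 = 2 * k by omega, hkw]]
      simp
    · rw [cc_add ha hB, cc_smul, map_smul, smul_eq_mul, sym_move ha, cc_sym ha, cc_nil ha hB]
      have hz : cc B N a (j + 2 * m + 1) w = 0 := by
        rcases Nat.lt_or_ge (j + 2 * m + 1) k with h | h
        · rw [show j + 2 * m + 1 = k - 1 by omega, hqw]
        · exact cc_high_even ha hkw h
      rw [hz, mul_zero, add_zero]
      by_cases hj0 : j = k - 2 - m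
      · have := symn_top ha (m := k - 1) (i := 1) hxk (by omega) w
        rw [pow_one, hxw] at this
        rw [show m + (j + 1) = k - 1 by omega, this, mul_one, hj0]
        exact CharTwo.add_self_eq_zero _
      · have := symn_zero ha (m := m + (j + 1)) (i := 1) hxk (by omega) w
        rw [pow_one] at this
        rw [this, mul_zero, add_zero]
        exact hxv j (by omega)

/-- Normalising the product of two isotropic generators. -/
theorem cross_norm (ha : Isom B N a) (hB : B.IsAlt) (hW : Piece B a W) {e : ℕ} (he : 1 ≤ e) {v w : V} (hv : v ∈ W)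
    (hw : w ∈ W) (hkv : (nil a ^ e) v = 0) (hkw : (nil a ^ e) w = 0) (hvw : B ((nil a ^ (e - 1)) v) w = 1)
    (hqv : ∀ j, cc B N a j v = 0) (hqw : ∀ j, cc B N a j w = 0) :
    ∃ v' ∈ W, ∃ w' ∈ W, Two B N a e 0 0 v' w' := by
  suffices h : ∀ m, ∃ w' ∈ W, (nil a ^ e) w' = 0 ∧ (∀ j, cc B N a j w' = 0) ∧
      ∀ j, e ≤ j + 1 + m → B ((nil a ^ j) v) w' = if j + 1 = e then 1 else 0 by
    obtain ⟨w', h1, h2, h3, h4⟩ := h e
    exact ⟨v, hv, w', h1, he, hkv, h2, fun j => by rw [hqv, twoVal_zero], fun j => by rw [h3, twoVal_zero],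
      fun j => h4 j (by omega)⟩
  intro m
  induction m with
  | zero =>
    refine ⟨w, hw, hkw, hqw, fun j hj => ?_⟩
    split_ifs with e1
    · rw [show j = e - 1 by omega, hvw]
    · rw [nil_zero_of_le hkv (by omega), map_zero, LinearMap.zero_apply]
  | succ m ih =>
    obtain ⟨y, hy, hyk, hyq, hyc⟩ := ih
    by_cases hlt : e < m + 2
    · exact ⟨y, hy, hyk, hyq, fun j _ => hyc j (by omega)⟩
    set c := B ((nil a ^ (e - 2 - m)) v) y
    refine ⟨y + c • (nil a ^ (m + 1)) y, W.add_mem hy (W.smul_mem _ (nil_mem hW _ hy)), ?_, fun j => ?_, fun j hj => ?_⟩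
    · rw [map_add, map_smul, hyk, kill_nil _ hyk, smul_zero, add_zero]
    · rw [cc_add ha hB, cc_smul, map_smul, smul_eq_mul, cc_nil_pow ha hB, hyq, hyq, ← aeval_lin_pow (a := a),
        show sym N a ^ (j + 1) = aeval a ((X + X ^ (N - 1) : F[X]) ^ (j + 1)) by simp [sym],
        self_gram_zero ha hB hyq]
      simp
    · rw [map_add, map_smul, smul_eq_mul]
      by_cases hj0 : j = e - 2 - m
      · rw [cross_top ha hkv (by omega), show B ((nil a ^ (e - 1)) v) y = 1 by
            rw [hyc _ (by omega), if_pos (by omega)], mul_one, if_neg (by omega), hj0]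
        exact CharTwo.add_self_eq_zero _
      · rw [cross_zero ha hkv (by omega), mul_zero, add_zero]
        exact hyc j (by omega)

/-- The standard hyperbolic pair. -/
theorem hyp_norm (ha : Isom B N a) (hB : B.IsAlt) (hW : Piece B a W) {e : ℕ} (he : 1 ≤ e) {v w : V} (hv : v ∈ W)
    (hw : w ∈ W) (hkv : (nil a ^ e) v = 0) (hkw : (nil a ^ e) w = 0) (hvw : B ((nil a ^ (e - 1)) v) w = 1)
    (hqv : cc B N a (topIx e) v = 0)
    (hqw : cc B N a (topIx e) w = 0) : ∃ v' ∈ W, ∃ w' ∈ W, Two B N a e 0 0 v' w' := by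
  rcases Nat.even_or_odd' e with ⟨k, rfl | rfl⟩
  · rw [show topIx (2 * k) = k - 1 by rw [topIx]; omega] at hqv hqw
    obtain ⟨v', hv', hkv', hvw', hzv⟩ := fix_even ha hB hW (by omega) hv hw hkv hkw hvw hqv hqw
    obtain ⟨w', hw', hkw', hwv', hzw⟩ := fix_even ha hB hW (by omega) hw hv' hkw hkv'
      (by rw [top_symm ha hkv' (by omega) hB, hvw']) hqw (hzv _)
    exact cross_norm ha hB hW he hv' hw' hkv' hkw' (by rw [top_symm ha hkw' he hB, hwv']) hzv hzw
  · rw [show topIx (2 * k + 1) = k - 1 by rw [topIx]; omega] at hqv hqw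
    rw [Nat.add_sub_cancel] at hvw
    obtain ⟨v', hv', hkv', hvw', hzv⟩ := fix_odd ha hB hW hv hw hkv hkw hvw
    simp only [hqv, twoVal_zero] at hzv
    obtain ⟨w', hw', hkw', hwv', hzw⟩ := fix_odd ha hB hW hw hv' hkw hkv' (by
      have := top_symm ha hkv' he hB w
      rw [Nat.add_sub_cancel] at this
      rw [this, hvw'])
    simp only [hqw, twoVal_zero] at hzw
    refine cross_norm ha hB hW he hv' hw' hkv' hkw' ?_ hzv hzw
    rw [top_symm ha hkw' he hB, Nat.add_sub_cancel, hwv']

/-- The standard anisotropic pair. -/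
theorem arf_norm [Finite F] (ha : Isom B N a) (hB : B.IsAlt) (hW : Piece B a W) {k : ℕ} (hk : 1 ≤ k) {v w : V}
    (hv : v ∈ W) (hw : w ∈ W) (hkv : (nil a ^ (2 * k + 1)) v = 0) (hkw : (nil a ^ (2 * k + 1)) w = 0)
    (hvw : B ((nil a ^ (2 * k)) v) w = 1) (hqv : cc B N a (k - 1) v = 1) (hqw : cc B N a (k - 1) w = del F) :
    ∃ v' ∈ W, ∃ w' ∈ W, Two B N a (2 * k + 1) 1 (del F) v' w' := by
  obtain ⟨x, hx, hxk, hxw, hxv⟩ := fix_odd ha hB hW hv hw hkv hkw hvw
  rw [hqv] at hxv
  -- one step on the product, keeping the coefficients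
  have mu : ∀ (i s : ℕ) (y : V), 2 * s + 1 ≤ i → y ∈ W → (nil a ^ (2 * k + 1)) y = 0 →
      (∀ j, 2 * k ≤ j + (i - 1) → B ((nil a ^ j) x) y = if j + 1 = 2 * k + 1 then 1 else 0) →
      (∀ l, k ≤ l + 1 + s → cc B N a l y = twoVal (2 * k + 1) (del F) l) →
      ∃ y' ∈ W, (nil a ^ (2 * k + 1)) y' = 0 ∧
        (∀ j, 2 * k ≤ j + i → B ((nil a ^ j) x) y' = if j + 1 = 2 * k + 1 then 1 else 0) ∧
        ∀ l, k ≤ l + 1 + s → cc B N a l y' = twoVal (2 * k + 1) (del F) l := by
    intro i s y hi hy hyk hyc hyq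
    by_cases hlt : 2 * k < i
    · exact ⟨y, hy, hyk, fun j _ => hyc j (by omega), hyq⟩
    set c := B ((nil a ^ (2 * k - i)) x) y
    refine ⟨y + c • (nil a ^ i) y, W.add_mem hy (W.smul_mem _ (nil_mem hW _ hy)), ?_, fun j hj => ?_, fun l hl => ?_⟩
    · rw [map_add, map_smul, hyk, kill_nil _ hyk, smul_zero, add_zero]
    · rw [map_add, map_smul, smul_eq_mul]
      by_cases hj0 : j = 2 * k - i
      · rw [cross_top ha hxk (by omega), show B ((nil a ^ (2 * k + 1 - 1)) x) y = 1 by
            rw [hyc _ (by omega), if_pos (by omega)], mul_one, if_neg (by omega), hj0]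
        exact CharTwo.add_self_eq_zero _
      · rw [cross_zero ha hxk (by omega), mul_zero, add_zero]
        exact hyc j (by omega)
    · rw [cc_add ha hB, cc_smul, map_smul, smul_eq_mul, cc_nil_pow ha hB, cc_high_odd ha hB hyk (j := l + i) (by omega),
        symn_zero ha hyk (by omega), mul_zero, mul_zero, add_zero, add_zero]
      exact hyq l hl
  suffices h : ∀ s, ∃ y ∈ W, (nil a ^ (2 * k + 1)) y = 0 ∧
      (∀ j, 2 * k ≤ j + 2 * s → B ((nil a ^ j) x) y = if j + 1 = 2 * k + 1 then 1 else 0) ∧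
      ∀ l, k ≤ l + 1 + s → cc B N a l y = twoVal (2 * k + 1) (del F) l by
    obtain ⟨y, h1, h2, h3, h4⟩ := h k
    exact ⟨x, hx, y, h1, by omega, hxk, h2, hxv, fun j => h4 j (by omega), fun j => h3 j (by omega)⟩
  intro s
  induction s with
  | zero =>
    refine ⟨w, hw, hkw, fun j hj => ?_, fun l hl => ?_⟩
    · split_ifs with e1
      · rw [show j = 2 * k by omega, hxw]
      · rw [nil_zero_of_le hxk (by omega), map_zero, LinearMap.zero_apply]
    · rw [twoVal]
      split_ifs with e1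
      · rw [show l = k - 1 by omega, hqw]
      · exact cc_high_odd ha hB hkw (by omega)
  | succ s ih =>
    obtain ⟨y, hy, hyk, hyc, hyq⟩ := ih
    obtain ⟨y1, hy1, hyk1, hyc1, hyq1⟩ := mu (2 * s + 1) s y le_rfl hy hyk (fun j hj => hyc j (by omega)) hyq
    obtain ⟨y2, hy2, hyk2, hyc2, hyq2⟩ := mu (2 * s + 2) s y1 (by omega) hy1 hyk1 (fun j hj => hyc1 j (by omega)) hyq1
    by_cases hlt : k < s + 2
    · exact ⟨y2, hy2, hyk2, fun j hj => hyc2 j (by omega), fun l _ => hyq2 l (by omega)⟩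
    set c := cc B N a (k - 2 - s) y2
    refine ⟨y2 + c • (sym N a ^ (s + 1)) x, W.add_mem hy2 (W.smul_mem _ (sym_mem hW _ hx)), ?_, fun j hj => ?_,
      fun l hl => ?_⟩
    · rw [map_add, map_smul, hyk2, kill_sym _ hxk, smul_zero, add_zero]
    · rw [map_add, map_smul, smul_eq_mul, hyc2 j (by omega), alt_symm hB ((nil a ^ j) x) ((sym N a ^ (s + 1)) x)]
      rcases Nat.lt_or_ge (2 * (s + 1) + j) (2 * k + 1) with h | h
      · rw [symn_top ha hxk (by omega), Nat.add_sub_cancel, top_self_odd ha hB hxk, mul_zero, add_zero]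
      · rw [symn_zero ha hxk h, mul_zero, add_zero]
    · rw [cc_add ha hB, cc_smul, map_smul, smul_eq_mul, sym_move ha, cc_sym ha]
      rw [cc_high_odd ha hB hxk (j := l + 2 * (s + 1)) (by omega), mul_zero, add_zero]
      by_cases hl0 : l = k - 2 - s
      · have h1 := symn_top ha (m := k) (i := 0) hyk2 (by omega) x
        rw [pow_zero, Module.End.one_apply, top_symm ha hxk (by omega) hB, hyc2 _ (by omega), if_pos (by omega)] at h1
        rw [twoVal, if_neg (by omega), show s + 1 + (l + 1) = k by omega, h1, mul_one, hl0]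
        exact CharTwo.add_self_eq_zero _
      · rw [sym_zero ha hyk2 (by omega), mul_zero, add_zero]
        exact hyq2 l (by omega)

end Cfsg.Lib.ClassNumberSpEven
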