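import Cfsg.Agent.Known.ClassNumberSpEven.Count
import Mathlib

/-! The series bounding the number of label sets in characteristic two. -/

set_option autoImplicit false
set_option linter.style.haveILetI false

open Polynomial
open scoped Classical

namespace Cfsg.Lib.ClassNumberSpEven

open Cfsg.Lib.ClassNumberSp (Pal card_pal_le)

universe u

/-- The number of single blocks named by a state of a level. -/
def stOnes (s : Fin 4) : ℕ := if s = 3 then 0 else (s : ℕ)

/-- The number of single blocks at the position `r` of a pattern. -/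
def onesAt {m : ℕ} (c : Fin m → Fin 4) (r : ℕ) : ℕ := if h : r < m then stOnes (c ⟨r, h⟩) else 0

/-- The weight of one level. -/
def stWt (j : ℕ) (s : Fin 4) (next : ℕ) : ℕ :=
  stOnes s * j + if s = 3 ∧ next = 0 then 2 * j + 1 else 0

/-- The weight of a pattern of levels starting at `j`. -/
def wt {m : ℕ} (j : ℕ) (c : Fin m → Fin 4) : ℕ := ∑ r : Fin m, stWt (j + r) (c r) (onesAt c ((r : ℕ) + 1))

/-- The admissible patterns. -/
def patterns (n : ℕ) : Finset ((Fin n → ℕ) × (Fin n → Fin 4)) :=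
  ((Fintype.piFinset fun _ : Fin n => Finset.range (n + 1)) ×ˢ Finset.univ).filter fun p =>
    ∑ i : Fin n, ((i : ℕ) + 1) * p.1 i + wt 1 p.2 = n

/-- The pattern sum with empty or nonempty first level. -/
def part0 (y : ℚ) (j m : ℕ) : ℚ := ∑ c : Fin m → Fin 4, if onesAt c 0 = 0 then y ^ wt j c else 0

/-- The pattern sum with nonempty first level. -/
def part1 (y : ℚ) (j m : ℕ) : ℚ := ∑ c : Fin m → Fin 4, if onesAt c 0 = 0 then 0 else y ^ wt j c

theorem part_sum (y : ℚ) (j m : ℕ) : part0 y j m + part1 y j m = ∑ c : Fin m → Fin 4, y ^ wt j c := by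
  rw [part0, part1, ← Finset.sum_add_distrib]
  exact Finset.sum_congr rfl fun c _ => by split_ifs <;> simp

theorem onesAt_cons_succ {m : ℕ} (s : Fin 4) (c : Fin m → Fin 4) (r : ℕ) :
    onesAt (Fin.cons s c) (r + 1) = onesAt c r := by
  unfold onesAt
  by_cases h : r < m
  · rw [dif_pos h, dif_pos (by omega), ← Fin.cons_succ (α := fun _ => Fin 4) s c ⟨r, h⟩]; rfl
  · rw [dif_neg h, dif_neg (by omega)]

theorem onesAt_cons_zero {m : ℕ} (s : Fin 4) (c : Fin m → Fin 4) : onesAt (Fin.cons s c) 0 = stOnes s := by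
  unfold onesAt
  rw [dif_pos (Nat.succ_pos m)]; rfl

theorem wt_cons {m : ℕ} (j : ℕ) (s : Fin 4) (c : Fin m → Fin 4) :
    wt j (Fin.cons s c) = stWt j s (onesAt c 0) + wt (j + 1) c := by
  rw [wt, Fin.sum_univ_succ, Fin.cons_zero, Fin.val_zero, add_zero, onesAt_cons_succ, wt]
  congr 1
  refine Finset.sum_congr rfl fun r _ => ?_
  rw [Fin.cons_succ, Fin.val_succ, onesAt_cons_succ, show j + ((r : ℕ) + 1) = j + 1 + r by omega]

theorem part_succ (y : ℚ) (j m : ℕ) :
    part0 y j (m + 1) = part0 y (j + 1) m * (1 + y ^ (2 * j + 1)) + 2 * part1 y (j + 1) m ∧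
      part1 y j (m + 1) = (y ^ j + y ^ (2 * j)) * (part0 y (j + 1) m + part1 y (j + 1) m) := by
  constructor
  · rw [part0, ← Equiv.sum_comp (Fin.consEquiv fun _ => Fin 4), Fintype.sum_prod_type, Finset.sum_comm, part0, part1,
      Finset.sum_mul, Finset.mul_sum, ← Finset.sum_add_distrib]
    refine Finset.sum_congr rfl fun c _ => ?_
    simp only [Fin.consEquiv, Equiv.coe_fn_mk, onesAt_cons_zero, wt_cons, Fin.sum_univ_four, stOnes, stWt, pow_add]
    by_cases h : onesAt c 0 = 0 <;> simp [h] <;> ring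
  · rw [part1, ← Equiv.sum_comp (Fin.consEquiv fun _ => Fin 4), Fintype.sum_prod_type, Finset.sum_comm, part_sum,
      Finset.mul_sum]
    refine Finset.sum_congr rfl fun c _ => ?_
    simp only [Fin.consEquiv, Equiv.coe_fn_mk, onesAt_cons_zero, wt_cons, Fin.sum_univ_four, stOnes, stWt, pow_add]
    simp
    ring

/-- One step of the bound at `y = 1/2`. -/
def stepB (j : ℕ) (p : ℚ × ℚ) : ℚ × ℚ :=
  (p.1 * (1 + (1 / 2) ^ (2 * j + 1)) + 2 * p.2, ((1 / 2) ^ j + (1 / 2) ^ (2 * j)) * (p.1 + p.2))

/-- The bound of the tail. -/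
def tailB (j : ℕ) : ℚ × ℚ := (1 + 203 / 100 * (1 / 2) ^ j, 1001 / 1000 * (1 / 2) ^ j)

/-- The bound at the level `14 - i`. -/
def lowB : ℕ → ℚ × ℚ
  | 0 => tailB 14
  | i + 1 => stepB (13 - i) (lowB i)

/-- The bound at a level. -/
def bndB (j : ℕ) : ℚ × ℚ := if 14 ≤ j then tailB j else lowB (14 - j)

theorem lowB_nonneg : ∀ i, 1 ≤ (lowB i).1 ∧ 0 ≤ (lowB i).2
  | 0 => by norm_num [lowB, tailB]
  | i + 1 => by
    obtain ⟨h1, h2⟩ := lowB_nonneg i
    simp only [lowB, stepB]
    refine ⟨le_add_of_le_of_nonneg (le_trans h1 (le_mul_of_one_le_right (by linarith) ?_)) (by linarith), by positivity⟩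
    exact le_add_of_nonneg_right (by positivity)

theorem bndB_nonneg (j : ℕ) : 1 ≤ (bndB j).1 ∧ 0 ≤ (bndB j).2 := by
  rw [bndB]
  split_ifs
  · exact ⟨le_add_of_nonneg_right (by positivity), by simp only [tailB]; positivity⟩
  · exact lowB_nonneg _

theorem stepB_le (j : ℕ) : (stepB j (bndB (j + 1))).1 ≤ (bndB j).1 ∧ (stepB j (bndB (j + 1))).2 ≤ (bndB j).2 := by
  rcases Nat.lt_or_ge j 14 with hj | hj
  · have : bndB j = stepB j (bndB (j + 1)) := by
      have e1 : bndB (j + 1) = lowB (13 - j) := by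
        rw [bndB]
        split_ifs with h
        · rw [show j + 1 = 14 by omega, show 13 - j = 0 by omega]; rfl
        · congr 1
          omega
      rw [bndB, if_neg (by omega), show 14 - j = (13 - j) + 1 by omega, lowB, e1, show 13 - (13 - j) = j by omega]
    rw [this]
    exact ⟨le_rfl, le_rfl⟩
  · rw [bndB, if_pos (by omega), bndB, if_pos hj]
    simp only [stepB, tailB, pow_succ, show 2 * j = j + j by omega, pow_add]
    set z : ℚ := (1 / 2) ^ j with hz
    have hz0 : 0 < z := by positivity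
    have hz1 : z ≤ 1 / 16384 := le_trans (pow_le_pow_of_le_one (by norm_num) (by norm_num) hj) (by norm_num)
    have hz2 : z * z ≤ z / 16384 := by nlinarith
    have hz3 : z * z * z ≤ z * z := by nlinarith
    constructor <;> nlinarith

theorem part_le {y : ℚ} (hy0 : 0 ≤ y) (hy : y ≤ 1 / 2) :
    ∀ m j, part0 y j m ≤ (bndB j).1 ∧ part1 y j m ≤ (bndB j).2 ∧ 0 ≤ part0 y j m ∧ 0 ≤ part1 y j m := by
  intro m
  induction m with
  | zero =>
    intro j
    obtain ⟨h1, h2⟩ := bndB_nonneg j
    simp [part0, part1, onesAt, wt, h1, h2]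
  | succ m ih =>
    intro j
    obtain ⟨h1, h2, h3, h4⟩ := ih (j + 1)
    obtain ⟨s1, s2⟩ := stepB_le j
    obtain ⟨e0, e1⟩ := part_succ y j m
    have p1 := pow_le_pow_left₀ hy0 hy (2 * j + 1)
    have p2 := pow_le_pow_left₀ hy0 hy j
    have p3 := pow_le_pow_left₀ hy0 hy (2 * j)
    rw [e0, e1]
    refine ⟨le_trans ?_ s1, le_trans ?_ s2, by positivity, by positivity⟩
    · simp only [stepB]
      refine add_le_add (mul_le_mul h1 (by linarith) (by positivity) (by linarith [(bndB_nonneg (j + 1)).1]))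
        (by linarith)
    · simp only [stepB]
      exact mul_le_mul (by linarith) (by linarith) (by positivity) (by positivity)

theorem part_total {y : ℚ} (hy0 : 0 ≤ y) (hy : y ≤ 1 / 2) (n : ℕ) :
    ∑ c : Fin n → Fin 4, y ^ wt 1 c ≤ 4389 / 1000 := by
  obtain ⟨h1, h2, -, -⟩ := part_le hy0 hy n 1
  rw [← part_sum]
  refine (add_le_add h1 h2).trans ?_
  norm_num [bndB, lowB, stepB, tailB]

theorem geom_le (n : ℕ) {y : ℚ} (hy0 : 0 ≤ y) (hy : y ≤ 1 / 2) :
    ∏ i ∈ Finset.range n, (1 - y ^ (i + 1))⁻¹ ≤ 34631 / 10000 := by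
  have hlt : ∀ i, (1 / 2 : ℚ) ^ (i + 1) < 1 := fun i => pow_lt_one₀ (by norm_num) (by norm_num) (by omega)
  refine le_trans (Finset.prod_le_prod (fun i _ => inv_nonneg.2 ?_) fun i _ => inv_anti₀ ?_ ?_)
    (?_ : ∏ i ∈ Finset.range n, (1 - (1 / 2 : ℚ) ^ (i + 1))⁻¹ ≤ _)
  · linarith [hlt i, pow_le_pow_left₀ hy0 hy (i + 1)]
  · linarith [hlt i]
  · linarith [pow_le_pow_left₀ hy0 hy (i + 1)]
  have inv : ∀ K, 14 ≤ K → ∏ i ∈ Finset.range K, (1 - (1 / 2 : ℚ) ^ (i + 1))⁻¹ ≤
      34631 / 10000 * (1 - (1 / 2) ^ K) := by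
    intro K hK
    induction K, hK using Nat.le_induction with
    | base => norm_num [Finset.prod_range_succ]
    | succ K hK ih =>
      rw [Finset.prod_range_succ, pow_succ]
      have hz : 0 < (1 / 2 : ℚ) ^ K := by positivity
      have h1 := hlt K
      rw [pow_succ] at h1
      refine le_trans (mul_le_mul_of_nonneg_right ih (inv_nonneg.2 (by linarith))) ?_
      rw [mul_assoc]
      refine mul_le_mul_of_nonneg_left ?_ (by norm_num)
      rw [← div_eq_mul_inv, div_le_iff₀ (by linarith)]
      nlinarith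
  rcases le_or_gt 14 n with h | h
  · refine (inv n h).trans ?_
    have : (0 : ℚ) ≤ (1 / 2) ^ n := by positivity
    linarith
  · refine le_trans (Finset.prod_le_prod_of_subset_of_one_le (Finset.range_subset_range.2 (show n ≤ 14 by omega))
      (fun i _ => inv_nonneg.2 (by linarith [hlt i])) fun i _ _ => ?_) ((inv 14 le_rfl).trans ?_)
    · rw [one_le_inv₀ (by linarith [hlt i])]
      linarith [show (0 : ℚ) ≤ (1 / 2) ^ (i + 1) by positivity]
    · norm_num

theorem sum_patterns_le (q n : ℕ) (hq : 2 ≤ q) :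
    ((∑ p ∈ patterns n, q ^ ∑ i, p.1 i : ℕ) : ℚ) ≤ 76 / 5 * (q : ℚ) ^ n := by
  have hq0 : (0 : ℚ) < q := by exact_mod_cast (by omega : 0 < q)
  set y : ℚ := 1 / (q : ℚ) with hy
  have hy0 : 0 ≤ y := by positivity
  have hy2 : y ≤ 1 / 2 := one_div_le_one_div_of_le (by norm_num) (by exact_mod_cast hq)
  have hterm : ∀ p ∈ patterns n, ((q ^ ∑ i, p.1 i : ℕ) : ℚ) =
      (q : ℚ) ^ n * ((∏ i : Fin n, y ^ ((i : ℕ) * p.1 i)) * y ^ wt 1 p.2) := by
    intro p hp
    rw [patterns, Finset.mem_filter] at hp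
    rw [Finset.prod_pow_eq_pow_sum, ← pow_add, hy, one_div, inv_pow, Nat.cast_pow]
    rw [eq_mul_inv_iff_mul_eq₀ (pow_ne_zero _ hq0.ne'), ← pow_add]
    congr 1
    refine Eq.trans ?_ hp.2
    rw [← add_assoc, ← Finset.sum_add_distrib]
    congr 1
    exact Finset.sum_congr rfl fun i _ => by ring
  push_cast at hterm ⊢
  rw [Finset.sum_congr rfl hterm, ← Finset.mul_sum, mul_comm]
  refine mul_le_mul_of_nonneg_right ?_ (by positivity)
  let T : Fin n → Finset ℕ := fun i => if (i : ℕ) = 0 then {0} else Finset.range (n + 1)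
  let g : (Fin n → ℕ) × (Fin n → Fin 4) → (Fin n → ℕ) × (Fin n → Fin 4) :=
    fun p => (fun i => if (i : ℕ) = 0 then 0 else p.1 i, p.2)
  have hval : ∀ p : (Fin n → ℕ) × (Fin n → Fin 4), (∏ i : Fin n, y ^ ((i : ℕ) * p.1 i)) * y ^ wt 1 p.2 =
      (∏ i : Fin n, y ^ ((i : ℕ) * (g p).1 i)) * y ^ wt 1 (g p).2 := fun p => by
    refine congrArg₂ (· * ·) (Finset.prod_congr rfl fun i _ => ?_) rfl
    simp only [g]
    split_ifs with h <;> simp [h]
  rw [Finset.sum_congr rfl fun p _ => hval p,
    ← Finset.sum_image (f := fun p => (∏ i : Fin n, y ^ ((i : ℕ) * p.1 i)) * y ^ wt 1 p.2) (g := g) ?_]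
  swap
  · intro p hp p' hp' h
    simp only [Finset.mem_coe, patterns, Finset.mem_filter] at hp hp'
    simp only [g, Prod.mk.injEq] at h
    obtain ⟨h1, h2⟩ := h
    refine Prod.ext (funext fun i => ?_) h2
    by_cases hi : (i : ℕ) = 0
    · have e := hp.2.trans hp'.2.symm
      rw [h2, ← Finset.add_sum_erase _ _ (Finset.mem_univ i), ← Finset.add_sum_erase _ _ (Finset.mem_univ i)] at e
      have : ∑ x ∈ Finset.univ.erase i, ((x : ℕ) + 1) * p.1 x = ∑ x ∈ Finset.univ.erase i, ((x : ℕ) + 1) * p'.1 x :=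
        Finset.sum_congr rfl fun x hx => by
          have hx0 : (x : ℕ) ≠ 0 := fun h0 => Finset.ne_of_mem_erase hx (Fin.ext (h0.trans hi.symm))
          have := congrFun h1 x
          rw [if_neg hx0, if_neg hx0] at this
          rw [this]
      rw [this, hi] at e
      omega
    · have := congrFun h1 i
      rwa [if_neg hi, if_neg hi] at this
  refine le_trans (Finset.sum_le_sum_of_subset_of_nonneg (t := Fintype.piFinset T ×ˢ Finset.univ) ?_
    (fun p _ _ => by positivity)) ?_
  · intro x hx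
    obtain ⟨p, hp, rfl⟩ := Finset.mem_image.1 hx
    simp only [patterns, Finset.mem_filter, Finset.mem_product, Fintype.mem_piFinset] at hp
    simp only [g, T, Finset.mem_product, Fintype.mem_piFinset, Finset.mem_univ, and_true]
    intro i
    split_ifs
    · simp
    · exact hp.1.1 i
  rw [Finset.sum_product]
  simp only
  rw [← Finset.sum_mul_sum, ← Finset.prod_univ_sum T (fun (i : Fin n) x => y ^ ((i : ℕ) * x))]
  refine le_trans (mul_le_mul (b := 34631 / 10000) ?_ (part_total hy0 hy2 n)
    (Finset.sum_nonneg fun c _ => by positivity) (by norm_num)) (by norm_num)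
  rcases Nat.eq_zero_or_pos n with rfl | hn
  · norm_num
  obtain ⟨m, rfl⟩ : ∃ m, n = m + 1 := ⟨n - 1, by omega⟩
  rw [Fin.prod_univ_succ]
  refine le_trans ?_ (geom_le m hy0 hy2)
  rw [show T 0 = {0} by simp [T], Finset.sum_singleton, Nat.mul_zero, pow_zero, one_mul,
    ← Fin.prod_univ_eq_prod_range (fun i => (1 - y ^ (i + 1))⁻¹) m]
  refine Finset.prod_le_prod (fun i _ => Finset.sum_nonneg fun x _ => by positivity) fun i _ => ?_
  simp only [T, Fin.val_succ, Nat.add_one_ne_zero, if_false, pow_mul]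
  have hx : y ^ ((i : ℕ) + 1) < 1 := pow_lt_one₀ hy0 (by linarith) (by omega)
  rw [← one_div, le_div_iff₀ (by linarith), geom_sum_mul_neg]
  have : 0 ≤ (y ^ ((i : ℕ) + 1)) ^ (m + 1 + 1) := by positivity
  linarith

variable {F : Type u} [Field F]

/-- The contribution of a label to the weight of a level. -/
noncomputable def Key.extra (o : ℕ → ℕ) (r : ℕ) : Key F → ℕ
  | .one k _ => if k = r then 2 * r else 0
  | .arf k => if k = r ∧ o (r + 1) = 0 then 2 * (2 * r + 1) else 0
  | _ => 0

variable [CharP F 2]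

theorem part_size {k : Key F} (hk : k.Valid) (o : ℕ → ℕ) {n : ℕ} (hn : k.size ≤ 2 * n) :
    ∑ i ∈ Finset.range n, ((i + 1) * (k.part o (i + 1)).natDegree) +
      ∑ r ∈ Finset.range n, k.extra o (r + 1) = k.size := by
  have d1 : ((1 : F[X])).natDegree = 0 := natDegree_one
  obtain ⟨-, -, ld⟩ := lin_sq_props (F := F)
  rcases k with ⟨Q, e⟩ | ⟨e⟩ | ⟨j⟩ | ⟨j, c⟩
  · obtain ⟨hQ, he⟩ := hk
    have hd : 2 ≤ Q.natDegree := (goodQ_props hQ).2.2.2.2
    simp only [Key.size] at hn
    have he2 : e ≤ n := by nlinarith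
    simp only [Key.extra, Finset.sum_const_zero, add_zero, Key.part, Key.size]
    rw [Finset.sum_eq_single (e - 1)]
    · rw [Nat.sub_add_cancel he, if_pos rfl, mul_comm]
    · intro i _ hi; rw [if_neg (by omega), d1, mul_zero]
    · intro h; exact absurd (Finset.mem_range.2 (by omega)) h
  · have he : 1 ≤ e := hk
    simp only [Key.size] at hn
    simp only [Key.extra, Finset.sum_const_zero, add_zero, Key.part, Key.size]
    rw [Finset.sum_eq_single (e - 1)]
    · rw [Nat.sub_add_cancel he, if_pos rfl, ld, mul_comm]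
    · intro i _ hi; rw [if_neg (by omega), d1, mul_zero]
    · intro h; exact absurd (Finset.mem_range.2 (by omega)) h
  · have hj : 1 ≤ j := hk
    simp only [Key.size] at hn
    by_cases ho : o (j + 1) = 0
    · rw [Finset.sum_eq_zero fun i _ => ?_, zero_add, Finset.sum_eq_single (j - 1)]
      · simp only [Key.extra, Key.size, Nat.sub_add_cancel hj, ho, and_self, if_true]
      · intro r _ hr; simp only [Key.extra]; rw [if_neg (by omega)]
      · intro h; exact absurd (Finset.mem_range.2 (by omega)) h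
      · simp only [Key.part]
        rw [if_neg (fun h => h.2 ho), d1, mul_zero]
    · rw [Finset.sum_eq_zero (s := Finset.range n) (f := fun r => (Key.arf j : Key F).extra o (r + 1)) fun r _ => ?_,
        add_zero, Finset.sum_eq_single (2 * j)]
      · simp only [Key.part, Key.size, ho, ne_eq, not_false_eq_true, and_self, if_true, ld]; ring
      · intro i _ hi; simp only [Key.part]; rw [if_neg (by omega), d1, mul_zero]
      · intro h; exact absurd (Finset.mem_range.2 (by omega)) h
      · simp only [Key.extra]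
        rw [if_neg]
        rintro ⟨rfl, h⟩
        exact ho h
  · have hj : 1 ≤ j := hk.1
    simp only [Key.size] at hn
    simp only [Key.part, d1, mul_zero, Finset.sum_const_zero, zero_add, Key.extra, Key.size]
    rw [Finset.sum_eq_single (j - 1)]
    · rw [Nat.sub_add_cancel hj, if_pos rfl]
    · intro r _ hr; rw [if_neg (by omega)]
    · intro h; exact absurd (Finset.mem_range.2 (by omega)) h

/-- The state of a level. -/
noncomputable def state (L : Multiset (Key F)) (k : ℕ) : Fin 4 :=
  if flags L k = 1 then 3 else if ones L k = 1 then 1 else if ones L k = 2 then 2 else 0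

omit [CharP F 2] in
theorem state_spec {L : Multiset (Key F)} (hL : Good L) (k : ℕ) :
    stOnes (state L k) = ones L k ∧ (state L k = 3 ↔ flags L k = 1) ∧ flags L k ≤ 1 := by
  have h1 : ones L k ≤ 2 := hL.one_le k
  have h2 : flags L k ≤ 1 := hL.flag_le k
  have h3 : 1 ≤ flags L k → ones L k = 0 := hL.excl k
  refine ⟨?_, ?_, h2⟩
  · rw [state]
    split_ifs with e1 e2 e3 <;> simp [stOnes] <;> omega
  · rw [state]
    split_ifs with e1 e2 e3 <;> simp [e1]

theorem data_mem {L : Multiset (Key F)} (hL : Good L) {n : ℕ} (hsz : (L.map Key.size).sum = 2 * n) :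
    ((fun i : Fin n => (poly L ((i : ℕ) + 1)).natDegree / 2, fun r : Fin n => state L ((r : ℕ) + 1)) ∈ patterns n) ∧
      ∀ e, n < e → poly L e = 1 ∧ ones L e = 0 ∧ flags L e = 0 := by
  have hsize : ∀ k ∈ L, k.size ≤ 2 * n := fun k hk => hsz ▸ Multiset.le_sum_of_mem (Multiset.mem_map_of_mem _ hk)
  have hhigh : ∀ e, n < e → poly L e = 1 ∧ ones L e = 0 ∧ flags L e = 0 := by
    intro e he
    refine ⟨Multiset.prod_eq_one fun x hx => ?_, ?_, ?_⟩
    · obtain ⟨k, hk, rfl⟩ := Multiset.mem_map.1 hx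
      have hs := hsize k hk
      rcases k with ⟨Q, e'⟩ | ⟨e'⟩ | ⟨j⟩ | ⟨j, c⟩ <;> simp only [Key.part] <;> simp only [Key.size] at hs
      · have := goodQ_props (hL.valid _ hk).1
        rw [if_neg]
        rintro rfl
        nlinarith [this.2.2.2.2]
      · rw [if_neg (by omega)]
      · rw [if_neg (by omega)]
    · have : ∀ c, L.count (Key.one e c) = 0 := fun c => Multiset.count_eq_zero.2 fun h => by
        have := hsize _ h
        simp only [Key.size] at this
        omega
      simp [ones, this]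
    · have h1 : L.count (Key.arf e) = 0 := Multiset.count_eq_zero.2 fun h => by
        have := hsize _ h
        simp only [Key.size] at this
        omega
      have h2 : L.count (Key.one (e + 1) true) = 0 := Multiset.count_eq_zero.2 fun h => by
        have := hsize _ h
        simp only [Key.size] at this
        omega
      simp [flags, h1, h2]
  refine ⟨?_, hhigh⟩
  have hext : ∀ r, (L.map (Key.extra (ones L) r)).sum =
      2 * r * ones L r + (if flags L r = 1 ∧ ones L (r + 1) = 0 then 2 * (2 * r + 1) else 0) := by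
    intro r
    have e : (L.map (Key.extra (ones L) r)).sum =
        (L.map fun k => if k = Key.one r false then 2 * r else 0).sum +
          (L.map fun k => if k = Key.one r true then 2 * r else 0).sum +
          (L.map fun k => if k = Key.arf r then (if ones L (r + 1) = 0 then 2 * (2 * r + 1) else 0) else 0).sum := by
      rw [← Multiset.sum_map_add, ← Multiset.sum_map_add]
      refine congrArg Multiset.sum (Multiset.map_congr rfl fun k _ => ?_)
      rcases k with ⟨Q, e'⟩ | ⟨e'⟩ | ⟨j⟩ | ⟨j, c⟩ <;> simp only [Key.extra, reduceCtorEq, if_false, add_zero, zero_add,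
        Key.arf.injEq, Key.one.injEq]
      · by_cases hj : j = r <;> simp [hj]
      · by_cases hj : j = r <;> cases c <;> simp [hj]
    rw [e, sum_one_count L (Key.one r false) _ _ (fun _ _ => rfl), sum_one_count L (Key.one r true) _ _ (fun _ _ => rfl),
      sum_one_count L (Key.arf r) _ _ (fun _ _ => rfl)]
    have h2 : flags L r ≤ 1 := hL.flag_le r
    simp only [flags] at h2 ⊢
    by_cases hz : ones L (r + 1) = 0
    · have : L.count (Key.one (r + 1) true) = 0 := by simp only [ones] at hz; omega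
      simp only [this, add_zero, hz, and_true, if_true] at h2 ⊢
      rcases Nat.le_one_iff_eq_zero_or_eq_one.1 h2 with h | h <;> simp [h, ones] <;> ring
    · simp only [hz, and_false, if_false, mul_zero, add_zero]
      simp only [ones]; ring
  have key : ∑ i ∈ Finset.range n, ((i + 1) * (poly L (i + 1)).natDegree) +
      ∑ r ∈ Finset.range n, (L.map (Key.extra (ones L) (r + 1))).sum = 2 * n := by
    rw [← hsz, Finset.sum_congr rfl fun i _ => by rw [(poly_props hL (i + 1)).2.2.1, ← Multiset.sum_map_mul_left]]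
    rw [← Multiset.sum_map_sum, ← Multiset.sum_map_sum, ← Multiset.sum_map_add]
    exact congrArg Multiset.sum (Multiset.map_congr rfl fun k hk => part_size (hL.valid k hk) _ (hsize k hk))
  have hsum : ∑ i : Fin n, ((i : ℕ) + 1) * ((poly L ((i : ℕ) + 1)).natDegree / 2) +
      wt 1 (fun r : Fin n => state L ((r : ℕ) + 1)) = n := by
    have hat : ∀ r, onesAt (fun i : Fin n => state L ((i : ℕ) + 1)) r = ones L (r + 1) := by
      intro r
      rw [onesAt]
      split_ifs with h
      · exact (state_spec hL _).1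
      · exact (hhigh _ (by omega)).2.1.symm
    rw [wt, Fin.sum_univ_eq_sum_range (fun i => (i + 1) * ((poly L (i + 1)).natDegree / 2))]
    refine Nat.eq_of_mul_eq_mul_left two_pos (Eq.trans ?_ key)
    rw [mul_add, Finset.mul_sum, Finset.mul_sum, ← Fin.sum_univ_eq_sum_range (fun r => (L.map (Key.extra (ones L) (r + 1))).sum) n]
    congr 1
    · refine Finset.sum_congr rfl fun i _ => ?_
      rw [mul_left_comm, Nat.two_mul_div_two_of_even (poly_props hL (i + 1)).2.2.2]
    · refine Finset.sum_congr rfl fun r _ => ?_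
      obtain ⟨s1, s2, -⟩ := state_spec hL ((r : ℕ) + 1)
      rw [hext, stWt, s1, hat, show 1 + (r : ℕ) = r + 1 by omega]
      by_cases h : flags L ((r : ℕ) + 1) = 1 ∧ ones L ((r : ℕ) + 1 + 1) = 0
      · rw [if_pos h, if_pos ⟨s2.2 h.1, h.2⟩]; ring
      · rw [if_neg h, if_neg fun hh => h ⟨s2.1 hh.1, hh.2⟩]; ring
  rw [patterns, Finset.mem_filter, Finset.mem_product, Fintype.mem_piFinset]
  refine ⟨⟨fun i => Finset.mem_range.2 (Nat.lt_succ_of_le ?_), Finset.mem_univ _⟩, hsum⟩
  refine le_trans (Nat.le_mul_of_pos_left _ (Nat.succ_pos (i : ℕ))) ?_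
  refine le_trans (Finset.single_le_sum (f := fun i : Fin n => ((i : ℕ) + 1) * ((poly L ((i : ℕ) + 1)).natDegree / 2))
    (fun _ _ => Nat.zero_le _) (Finset.mem_univ i)) ((Nat.le_add_right _ _).trans_eq hsum)

/-- The number of normal multisets of labels of total size `2 n`. -/
theorem card_labels_le [Fintype F] (n : ℕ) {ι : Type*} (L : ι → Multiset (Key F)) (hinj : Function.Injective L)
    (hL : ∀ i, Good (L i)) (hsz : ∀ i, ((L i).map Key.size).sum = 2 * n) :
    Finite ι ∧ Nat.card ι ≤ ∑ p ∈ patterns n, Fintype.card F ^ ∑ i, p.1 i := by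
  haveI := fun j => (card_pal_le (F := F) j).1
  let Φ : ι → Σ p : patterns n, (i : Fin n) → Pal F (p.1.1 i) := fun t =>
    ⟨⟨_, (data_mem (hL t) (hsz t)).1⟩, fun i => ⟨poly (L t) ((i : ℕ) + 1),
      (poly_props (hL t) _).1, (Nat.two_mul_div_two_of_even (poly_props (hL t) _).2.2.2).symm,
      (poly_props (hL t) _).2.1⟩⟩
  have hΦ : Function.Injective Φ := by
    intro t t' h
    have hst : ∀ r : Fin n, state (L t) ((r : ℕ) + 1) = state (L t') ((r : ℕ) + 1) := fun r =>
      congrArg (fun x : Σ p : patterns n, (i : Fin n) → Pal F (p.1.1 i) => x.1.1.2 r) h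
    refine hinj (eq_of_data (hL t) (hL t') (fun e he => ?_) (fun k hk => ?_) fun k hk => ?_)
    · by_cases hle : e ≤ n
      · have := congrArg (fun x : Σ p : patterns n, (i : Fin n) → Pal F (p.1.1 i) => (x.2 ⟨e - 1, by omega⟩).1) h
        simpa [Φ, Nat.sub_add_cancel he] using this
      · rw [((data_mem (hL t) (hsz t)).2 e (by omega)).1, ((data_mem (hL t') (hsz t')).2 e (by omega)).1]
    · by_cases hle : k ≤ n
      · have := hst ⟨k - 1, by omega⟩
        simp only [Nat.sub_add_cancel hk] at this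
        rw [← (state_spec (hL t) k).1, this, (state_spec (hL t') k).1]
      · rw [((data_mem (hL t) (hsz t)).2 k (by omega)).2.1, ((data_mem (hL t') (hsz t')).2 k (by omega)).2.1]
    · by_cases hle : k ≤ n
      · have := hst ⟨k - 1, by omega⟩
        simp only [Nat.sub_add_cancel hk] at this
        obtain ⟨-, a1, a2⟩ := state_spec (hL t) k
        obtain ⟨-, b1, b2⟩ := state_spec (hL t') k
        rw [this, b1] at a1
        omega
      · rw [((data_mem (hL t) (hsz t)).2 k (by omega)).2.2, ((data_mem (hL t') (hsz t')).2 k (by omega)).2.2]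
  refine ⟨Finite.of_injective Φ hΦ, (Nat.card_le_card_of_injective Φ hΦ).trans ?_⟩
  rw [Nat.card_sigma, ← Finset.sum_coe_sort (patterns n)]
  refine Finset.sum_le_sum fun p _ => ?_
  rw [Nat.card_pi, ← Finset.prod_pow_eq_pow_sum]
  exact Finset.prod_le_prod' fun i _ => (card_pal_le _).2

end Cfsg.Lib.ClassNumberSpEven
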