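import Cfsg.Agent.Known.ClassNumberSpEven.Norm
import Mathlib

/-! Splitting off a standard unipotent block, with preferences. -/

set_option autoImplicit false
set_option linter.style.haveILetI false

open Polynomial

namespace Cfsg.Lib.ClassNumberSpEven

open Cfsg.Lib.ClassNumberSp (Isom Piece GoodQ Cyc gen gen_le self_mem_gen pairGen mem_pairGen gen_invariant)

universe u v

variable {F : Type u} [Field F] [CharP F 2] {V : Type v} [AddCommGroup V] [Module F V]

/-- The labels of blocks. -/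
inductive Key (F : Type u) [Field F] : Type u
  | cyc (Q : F[X]) (e : ℕ)
  | pair (e : ℕ)
  | arf (k : ℕ)
  | one (k : ℕ) (c : Bool)

/-- The meaning of a label. -/
def IsBlock (B : LinearMap.BilinForm F V) (N : ℕ) (a : Module.End F V) : Key F → Submodule F V → Prop
  | .cyc Q e, U => GoodQ Q ∧ 1 ≤ e ∧ ∃ v, Cyc B a (Q ^ e) v ∧ U = gen a v
  | .pair e, U => ∃ v w, Two B N a e 0 0 v w ∧ U = pairGen a v w
  | .arf k, U => 1 ≤ k ∧ ∃ v w, Two B N a (2 * k + 1) 1 (del F) v w ∧ U = pairGen a v w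
  | .one k c, U => (c = true → 2 ≤ k) ∧ ∃ v, One B N a k (if c then del F else 0) v ∧ U = gen a v

/-- What the choice of a block tells about the piece containing it. -/
def Forced (B : LinearMap.BilinForm F V) (N : ℕ) (a : Module.End F V) (W : Submodule F V) :
    Key F → Submodule F V → Prop
  | .cyc _ _, _ => True
  | .pair e, _ => ∀ y ∈ W, (nil a ^ e) y = 0
  | .arf k, U => (∀ y ∈ W, (nil a ^ (2 * k + 1)) y = 0) ∧
      ∀ y ∈ W, (∀ x ∈ U, B x y = 0) → cc B N a (k - 1) y = 0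
  | .one k c, U => (∀ y ∈ W, (nil a ^ (2 * k)) y = 0) ∧
      (∀ x ∈ W, ∀ y ∈ W, cc B N a (k - 1) x = 0 → cc B N a (k - 1) y = 0 → B ((nil a ^ (2 * k - 1)) x) y = 0) ∧
      (c = true → ∀ y ∈ W, (∀ x ∈ U, B x y = 0) → cc B N a (k - 1) y = 0 ∧ cc B N a (k - 2) y = 0)

variable {B : LinearMap.BilinForm F V} {N : ℕ} {a : Module.End F V} {W : Submodule F V}

theorem pairGen_le (hW : Piece B a W) {v w : V} (hv : v ∈ W) (hw : w ∈ W) : pairGen a v w ≤ W :=
  sup_le (gen_le hW.invariant hv) (gen_le hW.invariant hw)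

omit [CharP F 2] in
theorem exists_top_partner (hW : Piece B a W) {x : V} (hx : x ∈ W) (hne : x ≠ 0) : ∃ w ∈ W, B x w = 1 := by
  obtain ⟨w, hw, h⟩ : ∃ w ∈ W, B x w ≠ 0 := by
    by_contra hcon
    push Not at hcon
    exact hne (hW.nondeg x hx hcon)
  exact ⟨(B x w)⁻¹ • w, W.smul_mem _ hw, by rw [map_smul, smul_eq_mul, inv_mul_cancel₀ h]⟩

/-- Splitting off a block of even length. -/
theorem exists_even_block [Finite F] (ha : Isom B N a) (hB : B.IsAlt) (hW : Piece B a W) {k : ℕ} (hk : 1 ≤ k)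
    (hkill : ∀ y ∈ W, (nil a ^ (2 * k)) y = 0) (hne : ∃ u ∈ W, (nil a ^ (2 * k - 1)) u ≠ 0) :
    ∃ key : Key F, ∃ U ≤ W, IsBlock B N a key U ∧ Forced B N a W key U := by
  by_cases hA : ∀ x ∈ W, ∀ y ∈ W, cc B N a (k - 1) x = 0 → cc B N a (k - 1) y = 0 → B ((nil a ^ (2 * k - 1)) x) y = 0
  swap
  · push Not at hA
    obtain ⟨x, hx, y, hy, hqx, hqy, hxy⟩ := hA
    set t := B ((nil a ^ (2 * k - 1)) x) y
    have hix : topIx (2 * k) = k - 1 := by rw [topIx]; omega
    obtain ⟨v, hv, w, hw, hvw⟩ := hyp_norm ha hB hW (e := 2 * k) (by omega) (W.smul_mem t⁻¹ hx) hy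
      (by rw [map_smul, hkill x hx, smul_zero]) (hkill y hy)
      (by rw [map_smul, map_smul, LinearMap.smul_apply, smul_eq_mul, inv_mul_cancel₀ hxy])
      (by rw [hix, cc_smul, hqx, mul_zero]) (by rw [hix, hqy])
    exact ⟨.pair (2 * k), _, pairGen_le hW hv hw, ⟨v, w, hvw, rfl⟩, hkill⟩
  obtain ⟨v0, hv0, hq0⟩ : ∃ v ∈ W, cc B N a (k - 1) v = 1 := by
    obtain ⟨v, hv, h⟩ : ∃ v ∈ W, cc B N a (k - 1) v ≠ 0 := by
      by_contra hcon
      push Not at hcon
      obtain ⟨u, hu, hune⟩ := hne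
      obtain ⟨w, hw, huw⟩ := exists_top_partner hW (nil_mem hW _ hu) hune
      rw [hA u hu w hw (hcon u hu) (hcon w hw)] at huw
      exact zero_ne_one huw
    obtain ⟨r, hr⟩ := exists_sq (cc B N a (k - 1) v)⁻¹
    exact ⟨r • v, W.smul_mem r hv, by rw [cc_smul, hr, inv_mul_cancel₀ h]⟩
  -- changing the second coefficient
  have hshift : ∀ v ∈ W, cc B N a (k - 1) v = 1 → ∀ c : F,
      v + c • nil a v ∈ W ∧ cc B N a (k - 1) (v + c • nil a v) = 1 ∧
        (2 ≤ k → cc B N a (k - 2) (v + c • nil a v) = cc B N a (k - 2) v + (c * c + c)) := by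
    intro v hv h1 c
    have hkv := hkill v hv
    refine ⟨W.add_mem hv (W.smul_mem c (by simpa using nil_mem hW 1 hv)), ?_, fun h2 => ?_⟩
    · rw [cc_add ha hB, cc_smul, map_smul, smul_eq_mul, cc_nil ha hB, cross_nil_self ha hB, h1,
        cc_high_even ha hkv (j := k - 1 + 1) (by omega)]
      simp
    · rw [cc_add ha hB, cc_smul, map_smul, smul_eq_mul, cc_nil ha hB, cross_nil_self ha hB,
        show k - 2 + 1 = k - 1 by omega, h1, mul_one, mul_one, add_assoc]
  by_cases hB0 : ∃ v ∈ W, cc B N a (k - 1) v = 1 ∧ (2 ≤ k → ∃ c : F, c * c + c = cc B N a (k - 2) v)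
  · obtain ⟨v, hv, h1, h2⟩ := hB0
    obtain ⟨c, hc⟩ : ∃ c : F, 2 ≤ k → c * c + c = cc B N a (k - 2) v := by
      by_cases h : 2 ≤ k
      · obtain ⟨c, hc⟩ := h2 h; exact ⟨c, fun _ => hc⟩
      · exact ⟨0, fun h' => absurd h' h⟩
    obtain ⟨hm, hq1, hq2⟩ := hshift v hv h1 c
    obtain ⟨v', hv', hone⟩ := one_norm ha hB hW hk (d := 0) hm (hkill _ hm) hq1
      (fun h => by rw [hq2 h, hc h, CharTwo.add_self_eq_zero])
    exact ⟨.one k false, _, gen_le hW.invariant hv', ⟨by simp, v', by simpa using hone, rfl⟩, hkill, hA, by simp⟩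
  push Not at hB0
  have hk2 : 2 ≤ k := (hB0 v0 hv0 hq0).1
  obtain ⟨c, hc⟩ := as_sum (F := F) ((hB0 v0 hv0 hq0).2)
  obtain ⟨hm, hq1, hq2⟩ := hshift v0 hv0 hq0 c
  obtain ⟨v, hv, hone⟩ := one_norm ha hB hW hk (d := del F) hm (hkill _ hm) hq1 (fun h => by
    rw [hq2 h, hc, ← add_assoc, CharTwo.add_self_eq_zero, zero_add])
  refine ⟨.one k true, _, gen_le hW.invariant hv, ⟨fun _ => hk2, v, by simpa using hone, rfl⟩, hkill, hA,
    fun _ y hy ho => ?_⟩
  have hcross : ∀ m i, B ((sym N a ^ m) v) ((nil a ^ i) y) = 0 := fun m i => by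
    rw [alt_symm hB, ← aeval_lin_pow (a := a), show sym N a ^ m = aeval a ((X + X ^ (N - 1) : F[X]) ^ m) by simp [sym],
      ha.adjoint, ← ClassNumberSp.aeval_mul_apply, alt_symm hB]
    exact ho _ (gen_invariant _ (self_mem_gen a v))
  have hd : cc B N a (k - 2) v = del F := by
    rw [hone.val, oneVal, if_neg (by omega), if_pos (by omega)]
  have hv1 : cc B N a (k - 1) v = 1 := by rw [hone.val, oneVal, if_pos (by omega)]
  have h1 : cc B N a (k - 1) y = 0 := by
    by_contra hne1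
    obtain ⟨r, hr⟩ := exists_sq (del F / cc B N a (k - 1) y)
    refine (hB0 (v + r • (nil a ^ 1) y) (W.add_mem hv (W.smul_mem r (nil_mem hW 1 hy))) ?_).2 0 ?_
    · rw [cc_add ha hB, cc_smul, map_smul, hcross, smul_zero, add_zero, cc_nil_pow ha hB, hv1,
        cc_high_even ha (hkill y hy) (j := k - 1 + 1) (by omega), mul_zero, add_zero]
    · rw [cc_add ha hB, cc_smul, map_smul, hcross, smul_zero, add_zero, cc_nil_pow ha hB, hd, hr,
        show k - 2 + 1 = k - 1 by omega, div_mul_cancel₀ _ hne1, CharTwo.add_self_eq_zero]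
      simp
  refine ⟨h1, ?_⟩
  by_contra hne2
  obtain ⟨r, hr⟩ := exists_sq (del F / cc B N a (k - 2) y)
  refine (hB0 (v + r • (nil a ^ 0) y) (W.add_mem hv (W.smul_mem r (nil_mem hW 0 hy))) ?_).2 0 ?_
  · rw [cc_add ha hB, cc_smul, map_smul, hcross, smul_zero, add_zero, cc_nil_pow ha hB, add_zero, h1, hv1, mul_zero,
      add_zero]
  · rw [cc_add ha hB, cc_smul, map_smul, hcross, smul_zero, add_zero, cc_nil_pow ha hB, hd, hr,
      add_zero (k - 2), div_mul_cancel₀ _ hne2, CharTwo.add_self_eq_zero]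
    simp

/-- Splitting off a block of odd length. -/
theorem exists_odd_block [Finite F] (ha : Isom B N a) (hB : B.IsAlt) (hW : Piece B a W) {k : ℕ}
    (hkill : ∀ y ∈ W, (nil a ^ (2 * k + 1)) y = 0) (hne : ∃ u ∈ W, (nil a ^ (2 * k)) u ≠ 0) :
    ∃ key : Key F, ∃ U ≤ W, IsBlock B N a key U ∧ Forced B N a W key U := by
  have htop : ∀ x ∈ W, ∀ y, B ((sym N a ^ k) x) y = B ((nil a ^ (2 * k)) x) y := fun x hx y => by
    have := symn_top ha (m := k) (i := 0) (hkill x hx) (by omega) y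
    rwa [pow_zero, Module.End.one_apply, Nat.add_sub_cancel] at this
  have hsym : ∀ x ∈ W, ∀ y, B ((nil a ^ (2 * k)) y) x = B ((nil a ^ (2 * k)) x) y := fun x hx y => by
    have := top_symm ha (hkill x hx) (by omega) hB y
    rwa [Nat.add_sub_cancel] at this
  -- moving the second vector along the first
  have hshift : ∀ v ∈ W, ∀ w ∈ W, B ((nil a ^ (2 * k)) v) w = 1 → ∀ c : F,
      B ((nil a ^ (2 * k)) v) (w + c • v) = 1 ∧
        (1 ≤ k → cc B N a (k - 1) (w + c • v) = cc B N a (k - 1) w + (c * c * cc B N a (k - 1) v + c)) := by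
    intro v hv w hw hvw c
    refine ⟨?_, fun hk => ?_⟩
    · rw [map_add, map_smul, top_self_odd ha hB (hkill v hv), hvw]; simp
    · rw [cc_add ha hB, cc_smul, map_smul, smul_eq_mul, Nat.sub_add_cancel hk, htop w hw, hsym v hv, hvw, mul_one,
        add_assoc]
  by_cases hS : ∃ v ∈ W, cc B N a (k - 1) v = 0 ∧ (nil a ^ (2 * k)) v ≠ 0
  · obtain ⟨v, hv, hqv, hvne⟩ := hS
    obtain ⟨w, hw, hvw⟩ := exists_top_partner hW (nil_mem hW _ hv) hvne
    obtain ⟨hvw', hqw⟩ := hshift v hv w hw hvw (cc B N a (k - 1) w)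
    have hw' := W.add_mem hw (W.smul_mem (cc B N a (k - 1) w) hv)
    have hix : topIx (2 * k + 1) = k - 1 := by rw [topIx]; omega
    obtain ⟨v', hv', w', hw'', htwo⟩ := hyp_norm ha hB hW (e := 2 * k + 1) (by omega) hv hw' (hkill v hv)
      (hkill _ hw') (by rw [Nat.add_sub_cancel]; exact hvw') (by rw [hix, hqv]) (by
        rw [hix]
        rcases Nat.eq_zero_or_pos k with rfl | hk
        · exact cc_high_odd ha hB (k := 0) (hkill _ hw') (by omega)
        · rw [hqw hk, hqv, mul_zero, zero_add, CharTwo.add_self_eq_zero])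
    exact ⟨.pair (2 * k + 1), _, pairGen_le hW hv' hw'', ⟨v', w', htwo, rfl⟩, hkill⟩
  push Not at hS
  obtain ⟨u, hu, hune⟩ := hne
  have hk : 1 ≤ k := by
    rcases Nat.eq_zero_or_pos k with rfl | hk
    · exact absurd (hS u hu (cc_high_odd ha hB (k := 0) (hkill u hu) (by omega))) hune
    · exact hk
  have hqu : cc B N a (k - 1) u ≠ 0 := fun h => hune (hS u hu h)
  obtain ⟨r, hr⟩ := exists_sq (cc B N a (k - 1) u)⁻¹
  have hr0 : r ≠ 0 := fun h => inv_ne_zero hqu (by rw [← hr, h, mul_zero])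
  have hv : r • u ∈ W := W.smul_mem r hu
  have hqv : cc B N a (k - 1) (r • u) = 1 := by rw [cc_smul, hr, inv_mul_cancel₀ hqu]
  obtain ⟨w, hw, hvw⟩ := exists_top_partner hW (nil_mem hW (2 * k) hv) (by
    rw [map_smul]; exact smul_ne_zero hr0 hune)
  have hnu : ∀ c : F, c * c + c ≠ cc B N a (k - 1) w := by
    intro c hc
    obtain ⟨h1, h2⟩ := hshift _ hv w hw hvw c
    have hmem := W.add_mem hw (W.smul_mem c hv)
    have h3 := hS _ hmem (by rw [h2 hk, hqv, mul_one, hc, CharTwo.add_self_eq_zero])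
    rw [← hsym _ hv, h3, map_zero, LinearMap.zero_apply] at h1
    exact zero_ne_one h1
  obtain ⟨c, hc⟩ := as_sum hnu
  obtain ⟨h1, h2⟩ := hshift _ hv w hw hvw c
  obtain ⟨v', hv', w', hw', htwo⟩ := arf_norm ha hB hW hk hv (W.add_mem hw (W.smul_mem c hv)) (hkill _ hv)
    (hkill _ (W.add_mem hw (W.smul_mem c hv))) h1 hqv (by
      rw [h2 hk, hqv, mul_one, hc, ← add_assoc, CharTwo.add_self_eq_zero, zero_add])
  refine ⟨.arf k, _, pairGen_le hW hv' hw', ⟨hk, v', w', htwo, rfl⟩, hkill, fun y hy ho => ?_⟩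
  by_contra hqy
  obtain ⟨t, ht⟩ := exists_sq (cc B N a (k - 1) y)⁻¹
  have hv1 : cc B N a (k - 1) v' = 1 := by rw [htwo.vall, twoVal, if_pos (by omega)]
  have horth : ∀ x ∈ pairGen a v' w', B x y = 0 := ho
  have hz := hS (v' + t • y) (W.add_mem hv' (W.smul_mem t hy)) (by
    rw [cc_add ha hB, cc_smul, ht, inv_mul_cancel₀ hqy, map_smul, hv1, smul_eq_mul, Nat.sub_add_cancel hk,
      htop v' hv', horth _ (by
        rw [← aeval_lin_pow (a := a)]
        exact mem_pairGen.2 ⟨(X - C 1) ^ (2 * k), 0, by simp⟩), mul_zero, add_zero,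
      CharTwo.add_self_eq_zero])
  have h4 : B ((nil a ^ (2 * k)) (v' + t • y)) w' = 1 := by
    rw [map_add, map_smul, map_add, LinearMap.add_apply, map_smul, LinearMap.smul_apply, hsym w' hw' y,
      horth ((nil a ^ (2 * k)) w') (by
        rw [← aeval_lin_pow (a := a)]
        exact mem_pairGen.2 ⟨0, (X - C 1) ^ (2 * k), by simp⟩), smul_zero, add_zero,
      htwo.cross, if_pos (by omega)]
  rw [hz, map_zero, LinearMap.zero_apply] at h4
  exact zero_ne_one h4

/-- Splitting off a unipotent block. -/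
theorem exists_unip_block [Finite F] (ha : Isom B N a) (hB : B.IsAlt) (hW : Piece B a W) (hne : W ≠ ⊥)
    (hnil : ∃ d, ∀ y ∈ W, (nil a ^ d) y = 0) :
    ∃ key : Key F, ∃ U ≤ W, IsBlock B N a key U ∧ Forced B N a W key U := by
  classical
  have hd := Nat.find_spec hnil
  set d := Nat.find hnil with hdef
  have hpos : d ≠ 0 := by
    intro h
    rw [h] at hd
    exact hne (eq_bot_iff.2 fun y hy => by simpa using hd y hy)
  have hmin : ∃ u ∈ W, (nil a ^ (d - 1)) u ≠ 0 := by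
    have := Nat.find_min hnil (m := d - 1) (by omega)
    push Not at this
    exact this
  rcases Nat.even_or_odd' d with ⟨k, hk | hk⟩
  · rw [hk] at hd hmin
    exact exists_even_block ha hB hW (by omega) hd hmin
  · rw [hk] at hd hmin
    rw [Nat.add_sub_cancel] at hmin
    exact exists_odd_block ha hB hW hd hmin

end Cfsg.Lib.ClassNumberSpEven
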